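import Cfsg.Agent.EqLemmas
import Cfsg.Prelude.Def_Local
import Cfsg.Agent.Lib.Transfer.Tate
import Cfsg.Agent.Lib.BrauerPairs.CyclicFree
import Cfsg.Agent.Lib.ClassIndex.PSolvable
import Cfsg.Agent.Lib.Solvable.PiSeparable

/-!
# Elements of order `p` when the Sylow `p`-subgroups are cyclic (owner: helper62)

* `mem_zpowers_of_cyclic`, `exists_conj_mem_zpowers`: one conjugacy class of subgroups of order `p`
* `hasNormalPComplement_of_fix`: Burnside's criterion with one fixed element of a cyclic Sylow subgroup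
* `exists_index_eq_of_pair`: a `p`-solvable group generated by two elements of order `p` has a normal
  `p'`-subgroup of index `p`
-/

set_option autoImplicit false

namespace Cfsg.Agent.PairsCyclic

open Subgroup

universe u

variable {G : Type u} [Group G] [Finite G] {p : ℕ} [hp : Fact p.Prime]

omit [Finite G] hp in
theorem mem_zpowers_of_cyclic {H : Subgroup G} [Finite H] (hH : IsCyclic H) {x a : G} (hx : x ∈ H)
    (ha : a ∈ H) (ho : a ^ orderOf x = 1) : a ∈ zpowers x := by
  classical
  have := Fintype.ofFinite H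
  have he : ((zpowers (⟨x, hx⟩ : H) : Subgroup H) : Set H) = {z | z ^ orderOf x = 1} := by
    refine Set.eq_of_subset_of_ncard_le ?_ ?_ (Set.toFinite _)
    · rintro _ ⟨i, rfl⟩
      refine Subtype.ext ?_
      show (((⟨x, hx⟩ : H) ^ i : H) : G) ^ orderOf x = 1
      rw [coe_zpow, ← zpow_natCast, ← zpow_mul, mul_comm, zpow_mul, zpow_natCast, pow_orderOf_eq_one,
        one_zpow]
    · rw [← Nat.card_coe_set_eq, ← Nat.card_coe_set_eq]
      refine le_trans ?_ (le_of_eq (Nat.card_zpowers (⟨x, hx⟩ : H)).symm)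
      rw [Subgroup.orderOf_mk, Nat.card_eq_fintype_card, Fintype.card_subtype]
      refine IsCyclic.card_pow_eq_one_le ?_
      have hfin : IsOfFinOrder (⟨x, hx⟩ : H) := isOfFinOrder_of_finite _
      rw [← Subgroup.orderOf_mk x hx]
      exact hfin.orderOf_pos
  have hm : (⟨a, ha⟩ : H) ∈ ((zpowers (⟨x, hx⟩ : H) : Subgroup H) : Set H) := by
    rw [he]
    exact Subtype.ext ho
  obtain ⟨i, hi⟩ := hm
  exact ⟨i, congrArg Subtype.val hi⟩

theorem isCyclic_of_isPGroup (P : Sylow p G) (hP : IsCyclic P) {R : Subgroup G} (hR : IsPGroup p R) :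
    IsCyclic R := by
  obtain ⟨S, hS⟩ := hR.exists_le_sylow
  haveI := hP
  haveI : IsCyclic S := isCyclic_of_surjective _ (P.equiv S).surjective
  exact isCyclic_of_injective (inclusion hS) (inclusion_injective hS)

theorem isCyclic_sylow_subgroup (P : Sylow p G) (hP : IsCyclic P) (H : Subgroup G) (Q : Sylow p H) :
    IsCyclic Q := by
  haveI := isCyclic_of_isPGroup P hP (Q.2.map H.subtype)
  exact isCyclic_of_injective ((Q : Subgroup H).equivMapOfInjective H.subtype H.subtype_injective).toMonoidHom
    (MulEquiv.injective _)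

/-- All subgroups of order `p` are conjugate. -/
theorem exists_conj_mem_zpowers (P : Sylow p G) (hP : IsCyclic P) {x a : G} (hxP : x ∈ (P : Subgroup G))
    (hx : orderOf x = p) (ha : orderOf a = p) : ∃ g : G, g⁻¹ * a * g ∈ zpowers x := by
  obtain ⟨S, hS⟩ := (IsPGroup.of_card (n := 1) (p := p) (G := zpowers a)
    (by rw [pow_one, Nat.card_zpowers, ha])).exists_le_sylow
  obtain ⟨g, rfl⟩ := MulAction.exists_smul_eq G P S
  refine ⟨g, mem_zpowers_of_cyclic hP hxP ?_ ?_⟩
  · have h := hS (mem_zpowers a)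
    rw [Sylow.coe_subgroup_smul, mem_pointwise_smul_iff_inv_smul_mem, ← map_inv, MulAut.smul_def,
      MulAut.conj_apply, inv_inv] at h
    exact h
  · have h : (g⁻¹ * a * g) ^ p = g⁻¹ * a ^ p * g := by
      simpa using conj_pow (a := g⁻¹) (b := a) (i := p)
    rw [hx, h, ← ha, pow_orderOf_eq_one, mul_one, inv_mul_cancel]

/-- Burnside's criterion: the normalizer of a cyclic Sylow subgroup fixes one of its non-identity elements. -/
theorem hasNormalPComplement_of_fix (P : Sylow p G) (hP : IsCyclic P) {x : G}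
    (hx : x ∈ (P : Subgroup G)) (hx1 : x ≠ 1)
    (hfix : ∀ g ∈ normalizer ((P : Subgroup G) : Set G), g * x * g⁻¹ = x) :
    HasNormalPComplement p G := by
  refine Transfer.hasNormalPComplement_of_normalizer_le_centralizer P fun g hg => ?_
  obtain ⟨k, hk⟩ := BrauerPairs.exists_pow_mem_centralizer_of_fix P.2 hP hg hx hx1 (hfix g hg)
  obtain ⟨a, b, hab, ha, hb, ⟨j, hj⟩, hbc⟩ := Transfer.exists_pPart_mul (p := p) g
  rw [hab]
  refine mul_mem ?_ ?_
  · have haP : a ∈ (P : Subgroup G) := by
      have h := (IsPGroup.of_card (n := j) (p := p) (G := zpowers a)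
        (by rw [Nat.card_zpowers, hj])).inf_normalizer_sylow P
      have hm : a ∈ zpowers a ⊓ normalizer ((P : Subgroup G) : Set G) :=
        ⟨mem_zpowers a, zpowers_le.2 hg ha⟩
      exact (h.le hm).2
    haveI := hP
    refine mem_centralizer_iff.2 fun z hz => ?_
    exact congrArg Subtype.val (IsMulCommutative.is_comm.comm (⟨z, hz⟩ : (P : Subgroup G)) ⟨a, haP⟩)
  · refine Transfer.mem_of_pow_mem_of_coprime (a := orderOf b) (b := p ^ k) (hbc.pow_right k)
      (by rw [pow_orderOf_eq_one]; exact one_mem _) ?_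
    obtain ⟨i, rfl⟩ := hb
    show (g ^ i) ^ (p ^ k) ∈ _
    rw [← zpow_natCast, ← zpow_mul, mul_comm, zpow_mul, zpow_natCast]
    exact zpow_mem hk i

theorem hasNormalPComplement_two (P : Sylow p G) (hP : IsCyclic P) (h2 : p = 2) :
    HasNormalPComplement p G := by
  by_cases hd : p ∣ Nat.card G
  · subst h2
    have hmin : (Nat.card G).minFac = 2 := (Nat.minFac_eq_two_iff _).2 hd
    exact Transfer.hasNormalPComplement_of_normalizer_le_centralizer P
      (IsCyclic.normalizer_le_centralizer hmin hP)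
  · exact Transfer.hasNormalPComplement_of_not_dvd hd

theorem isPSolvable_of_complement (h : HasNormalPComplement p G) : Cfsg.IsPSolvable p G := by
  obtain ⟨P, N, hN, hc⟩ := h
  haveI := hN
  obtain ⟨k, hk⟩ := P.2.exists_card_eq
  have hi : N.index = Nat.card (P : Subgroup G) := hc.symm.index_eq_card
  refine ClassIndex.isPSolvable_of_ext N (Or.inr ?_) (ClassIndex.isPSolvable_of_isSolvable _ ?_)
  · have hci := P.not_dvd_index
    rw [hc.index_eq_card] at hci
    exact ((Fact.out : p.Prime).coprime_iff_not_dvd.2 hci).symm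
  · haveI : Group.IsNilpotent (G ⧸ N) :=
      (IsPGroup.of_card (n := k) (by rw [← index_eq_card, hi, hk])).isNilpotent
    infer_instance

/-- In a cyclic Sylow situation a nontrivial normal `p`-subgroup contains all elements of order `p`. -/
theorem mem_of_normal_pGroup (P : Sylow p G) (hP : IsCyclic P) {N : Subgroup G} [N.Normal]
    (hN : IsPGroup p N) (hne : N ≠ ⊥) {a : G} (ha : orderOf a = p) : a ∈ N := by
  obtain ⟨j, hj⟩ := hN.exists_card_eq
  have hpd : p ∣ Nat.card N := by
    have h1 := (one_lt_card_iff_ne_bot N).2 hne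
    rw [hj] at h1 ⊢
    exact dvd_pow_self p (fun h0 => by simp [h0] at h1)
  obtain ⟨z, hz⟩ := exists_prime_orderOf_dvd_card' p hpd
  obtain ⟨S, hS⟩ := (hN.to_sup_of_normal_left (IsPGroup.of_card (n := 1) (p := p) (G := zpowers a)
    (by rw [pow_one, Nat.card_zpowers, ha]))).exists_le_sylow
  haveI := hP
  haveI : IsCyclic S := isCyclic_of_surjective _ (P.equiv S).surjective
  refine zpowers_le.2 (show (z : G) ∈ N from z.2) (mem_zpowers_of_cyclic (H := (S : Subgroup G))
    inferInstance (hS (le_sup_left (b := zpowers a) z.2)) (hS (le_sup_right (a := N) (mem_zpowers a))) ?_)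
  rw [Subgroup.orderOf_coe, hz, ← ha, pow_orderOf_eq_one]

omit hp in
theorem card_quotient_lt {N : Subgroup G} [N.Normal] (hne : N ≠ ⊥) :
    Nat.card (G ⧸ N) < Nat.card G := by
  rw [card_eq_card_quotient_mul_card_subgroup N]
  exact lt_mul_of_one_lt_right Nat.card_pos ((one_lt_card_iff_ne_bot N).2 hne)

theorem isCyclic_sylow_quotient (P : Sylow p G) (hP : IsCyclic P) (N : Subgroup G) [N.Normal]
    (Q : Sylow p (G ⧸ N)) : IsCyclic Q := by
  obtain ⟨S, rfl⟩ := Sylow.mapSurjective_surjective (QuotientGroup.mk'_surjective N) p Q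
  haveI := hP
  haveI : IsCyclic S := isCyclic_of_surjective _ (P.equiv S).surjective
  exact isCyclic_of_surjective ((QuotientGroup.mk' N).subgroupMap (S : Subgroup G))
    ((QuotientGroup.mk' N).subgroupMap_surjective _)

omit hp in
theorem orderOf_mk_eq (hp' : p.Prime) {N : Subgroup G} [N.Normal] (hN : ¬ p ∣ Nat.card N) {a : G}
    (ha : orderOf a = p) : orderOf (QuotientGroup.mk' N a) = p := by
  rcases hp'.eq_one_or_self_of_dvd _ (ha ▸ orderOf_map_dvd (QuotientGroup.mk' N) a) with h | h
  · exfalso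
    rw [orderOf_eq_one_iff, QuotientGroup.mk'_apply, QuotientGroup.eq_one_iff] at h
    exact hN (ha ▸ orderOf_dvd_natCard N h)
  · exact h

/-- A `p`-solvable group generated by two elements of order `p` has a normal `p'`-subgroup of index `p`. -/
theorem exists_index_eq_of_pair (hsep : Solvable.IsPiSeparable {p} G) (P : Sylow p G) (hP : IsCyclic P)
    {a b : G} (ha : orderOf a = p) (hb : orderOf b = p) (hgen : closure ({a, b} : Set G) = ⊤) :
    ∃ K : Subgroup G, K.Normal ∧ ¬ p ∣ Nat.card K ∧ K.index = p := by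
  obtain ⟨n, hn⟩ : ∃ n, n = Nat.card G := ⟨_, rfl⟩
  induction n using Nat.strong_induction_on generalizing G with
  | _ n IH =>
  subst hn
  haveI : Nontrivial G := ⟨⟨a, 1, fun h => hp.out.ne_one (by rw [← ha, h, orderOf_one])⟩⟩
  obtain ⟨N, hN, hne, hnum⟩ := hsep.exists_normal_ne_bot
  by_cases hd : p ∣ Nat.card N
  · have hNp : IsPGroup p N := by
      rcases hnum with h1 | h1
      · exact IsPGroup.of_card (Nat.eq_prime_pow_of_unique_prime_dvd Nat.card_pos.ne'
          fun {q} hq hd => h1 q hq hd)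
      · exact absurd rfl (h1 p hp.out hd)
    have haN := mem_of_normal_pGroup P hP hNp hne ha
    have hbN := mem_of_normal_pGroup P hP hNp hne hb
    have hbz : b ∈ zpowers a := mem_zpowers_of_cyclic (isCyclic_of_isPGroup P hP hNp) haN hbN
      (by rw [ha, ← hb, pow_orderOf_eq_one])
    refine ⟨⊥, inferInstance, by rw [card_bot]; exact hp.out.not_dvd_one, ?_⟩
    have htop : zpowers a = ⊤ := top_le_iff.1 (hgen ▸ (closure_le _).2 (by
      rintro z (rfl | rfl)
      · exact mem_zpowers _
      · exact hbz))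
    rw [index_bot, ← ha, ← Nat.card_zpowers, htop, card_top]
  · obtain ⟨K, hK, hKd, hKi⟩ := IH _ (card_quotient_lt hne) (hsep.quotient N)
      (default : Sylow p (G ⧸ N)) (isCyclic_sylow_quotient P hP N _)
      (orderOf_mk_eq hp.out hd ha) (orderOf_mk_eq hp.out hd hb)
      (by
        rw [← Set.image_singleton (f := QuotientGroup.mk' N) (a := b), ← Set.image_insert_eq,
          ← MonoidHom.map_closure, hgen, map_top_of_surjective _ (QuotientGroup.mk'_surjective N)])
      rfl
    refine ⟨K.comap (QuotientGroup.mk' N), hK.comap _, ?_,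
      by rw [index_comap_of_surjective _ (QuotientGroup.mk'_surjective N), hKi]⟩
    intro hdvd
    have h := index_mul_card (K.comap (QuotientGroup.mk' N))
    rw [index_comap_of_surjective _ (QuotientGroup.mk'_surjective N),
      card_eq_card_quotient_mul_card_subgroup N, ← index_mul_card K, mul_assoc] at h
    rw [Nat.eq_of_mul_eq_mul_left (Nat.pos_of_ne_zero FiniteIndex.index_ne_zero) h] at hdvd
    exact hp.out.not_dvd_mul hKd hd hdvd

end Cfsg.Agent.PairsCyclic
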