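import Cfsg.Agent.EqLemmas
import Mathlib.Data.Rat.Cast.Order
import Mathlib.Algebra.BigOperators.Field
import Mathlib.Tactic.Linarith
import Mathlib.Tactic.FieldSimp

/-!
# The arithmetic behind the cyclic pair count (owner: helper62)

`no_solution`: integers `t i` and degrees `f i` with the three sums of the pair count and the orbit bound
do not exist.
-/

set_option autoImplicit false

namespace Cfsg.Agent.PairsCyclic

open Finset

theorem no_solution_large {ι : Type*} [Fintype ι] {p q e : ℕ} (hp : 5 ≤ p) (hq : p ≤ q) (he : 2 ≤ e)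
    {i₀ : ι} {t : ι → ℤ} {f : ι → ℕ} (ht₀ : t i₀ = (p : ℤ) - 1) (hf₀ : f i₀ = 1)
    (hf : ∀ i, i ≠ i₀ → 2 ≤ f i)
    (hb : ∀ i, i ≠ i₀ → t i ≠ 0 → t i ^ 2 ≤ ((p : ℤ) - 1) * (((p : ℤ) - 1) * f i - t i))
    (h3 : ∑ i, (t i : ℚ) ^ 3 / f i = (e : ℚ) * q * ((p : ℚ) - 1) * ((p : ℚ) - 2))
    (h2 : ∑ i, (t i : ℚ) ^ 2 = ((p : ℚ) - 1) * e * q) : False := by
  classical
  have hpq : (5 : ℚ) ≤ p := by exact_mod_cast hp
  have hsum : ∑ i, (t i : ℚ) ^ 2 * (((p : ℚ) - 2) - t i / f i) = 0 := by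
    have : ∀ i, (t i : ℚ) ^ 2 * (((p : ℚ) - 2) - t i / f i) =
        ((p : ℚ) - 2) * (t i : ℚ) ^ 2 - (t i : ℚ) ^ 3 / f i := fun i => by ring
    rw [sum_congr rfl fun i _ => this i, sum_sub_distrib, ← mul_sum, h2, h3]
    ring
  rw [← add_sum_erase univ _ (mem_univ i₀)] at hsum h2
  rw [ht₀, hf₀] at hsum
  rw [ht₀] at h2
  push_cast at hsum h2
  have hterm : ∀ i ∈ univ.erase i₀,
      (t i : ℚ) ^ 2 * (((p : ℚ) - 3) / 2) ≤ (t i : ℚ) ^ 2 * (((p : ℚ) - 2) - t i / f i) := by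
    intro i hi
    have hne := ne_of_mem_erase hi
    by_cases h0 : t i = 0
    · simp [h0]
    refine mul_le_mul_of_nonneg_left ?_ (sq_nonneg _)
    have hb' := hb i hne h0
    have hf' : (2 : ℤ) ≤ f i := by exact_mod_cast hf i hne
    have hp' : (5 : ℤ) ≤ p := by exact_mod_cast hp
    have key : 2 * t i ≤ ((p : ℤ) - 1) * f i := by
      by_contra hlt
      push Not at hlt
      have h1 : (p : ℤ) - 1 < t i := by nlinarith
      nlinarith
    have hfq : (0 : ℚ) < f i := by exact_mod_cast (by omega : 0 < f i)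
    have keyq : 2 * (t i : ℚ) ≤ ((p : ℚ) - 1) * f i := by exact_mod_cast key
    have : (t i : ℚ) / f i ≤ ((p : ℚ) - 1) / 2 := by
      rw [div_le_iff₀ hfq]
      linarith
    linarith
  have hle := sum_le_sum hterm
  rw [← sum_mul] at hle
  set R := ∑ i ∈ univ.erase i₀, (t i : ℚ) ^ 2 with hR
  have hR0 : 0 ≤ R := sum_nonneg fun i _ => sq_nonneg _
  have h1 : R * (((p : ℚ) - 3) / 2) ≤ ((p : ℚ) - 1) ^ 2 := by
    refine hle.trans ?_
    have : ((p : ℚ) - 1) ^ 2 * (((p : ℚ) - 2) - ((p : ℚ) - 1) / 1) = -((p : ℚ) - 1) ^ 2 := by ring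
    linarith
  have heq : (2 : ℚ) * p ≤ e * q := by exact_mod_cast Nat.mul_le_mul he hq
  nlinarith

theorem no_solution_three {ι : Type*} [Fintype ι] {a : ℕ}
    {i₀ : ι} {c : ι → ℤ} {f : ι → ℕ} (hc₀ : c i₀ = 1) (hf₀ : f i₀ = 1)
    (hf : ∀ i, i ≠ i₀ → 2 ≤ f i) (hmod : ∀ i, (3 : ℤ) ∣ (f i : ℤ) - c i)
    (hb : ∀ i, i ≠ i₀ → c i ≠ 0 → c i ^ 2 ≤ (f i : ℤ) - c i)
    (h3 : ∑ i, (c i : ℚ) ^ 3 / f i = (3 : ℚ) ^ (a + 1) / 2)
    (h2 : ∑ i, (c i : ℚ) ^ 2 = (3 : ℚ) ^ (a + 1))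
    (h1 : ∑ i, (f i : ℚ) * c i = 0) : False := by
  classical
  have hsum : ∑ i, (c i : ℚ) ^ 2 * (1 - 2 * (c i / f i)) = 0 := by
    have : ∀ i, (c i : ℚ) ^ 2 * (1 - 2 * (c i / f i)) =
        (c i : ℚ) ^ 2 - 2 * ((c i : ℚ) ^ 3 / f i) := fun i => by ring
    rw [sum_congr rfl fun i _ => this i, sum_sub_distrib, ← mul_sum, h2, h3]
    ring
  rw [← add_sum_erase univ _ (mem_univ i₀)] at hsum h2 h1
  rw [hc₀, hf₀] at hsum h1
  rw [hc₀] at h2
  push_cast at hsum h1 h2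
  set s := univ.erase i₀ with hs
  have hterm : ∀ i ∈ s, (c i : ℚ) ^ 2 * (1 / 3) ≤ (c i : ℚ) ^ 2 * (1 - 2 * (c i / f i)) := by
    intro i hi
    have hne := ne_of_mem_erase hi
    by_cases h0 : c i = 0
    · simp [h0]
    refine mul_le_mul_of_nonneg_left ?_ (sq_nonneg _)
    have hb' := hb i hne h0
    have hf' := hf i hne
    have key : 3 * c i ≤ (f i : ℤ) := by
      rcases lt_trichotomy (c i) 1 with h | h | h
      · omega
      · obtain ⟨k, hk⟩ := hmod i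
        omega
      · nlinarith
    have hfq : (0 : ℚ) < f i := by exact_mod_cast (by omega : 0 < f i)
    have keyq : 3 * (c i : ℚ) ≤ f i := by exact_mod_cast key
    have : (c i : ℚ) / f i ≤ 1 / 3 := by
      rw [div_le_iff₀ hfq]
      linarith
    linarith
  have hle := sum_le_sum hterm
  rw [← sum_mul] at hle
  have ha : a = 0 := by
    by_contra hne
    have h9 : (9 : ℚ) ≤ 3 ^ (a + 1) := by
      calc (9 : ℚ) = 3 ^ 2 := by norm_num
        _ ≤ 3 ^ (a + 1) := pow_le_pow_right₀ (by norm_num) (by omega)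
    linarith
  rw [ha, zero_add, pow_one, one_pow] at h2
  have hint : ∑ i ∈ s, c i ^ 2 = 2 := by
    have : ((∑ i ∈ s, c i ^ 2 : ℤ) : ℚ) = 2 := by push_cast; linarith
    exact_mod_cast this
  have hpm : ∀ i ∈ s, c i = 0 ∨ c i = 1 ∨ c i = -1 := fun i hi => by
    have h := single_le_sum (f := fun i => c i ^ 2) (fun j _ => sq_nonneg _) hi
    simp only [hint] at h
    have : c i ≤ 1 := by nlinarith
    have : -1 ≤ c i := by nlinarith
    omega
  set T := s.filter fun i => c i ≠ 0 with hT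
  have hcard : T.card = 2 := by
    have h : ∑ i ∈ s, c i ^ 2 = (T.card : ℤ) := by
      rw [hT, card_filter, Nat.cast_sum]
      refine sum_congr rfl fun i hi => ?_
      rcases hpm i hi with h | h | h <;> simp [h]
    omega
  obtain ⟨i, j, hij, hTij⟩ := card_eq_two.1 hcard
  have hzero : ∀ g : ι → ℚ, (∀ k, c k = 0 → g k = 0) → ∑ k ∈ s, g k = g i + g j := by
    intro g hg
    rw [← sum_pair hij, ← hTij, hT]
    exact (sum_filter_of_ne (p := fun k => c k ≠ 0) fun k _ hk h => hk (hg k h)).symm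
  have hiT : i ∈ T := hTij ▸ mem_insert_self _ _
  have hjT : j ∈ T := hTij ▸ mem_insert_of_mem (mem_singleton_self j)
  obtain ⟨his, hci⟩ := mem_filter.1 hiT
  obtain ⟨hjs, hcj⟩ := mem_filter.1 hjT
  have hfi : (2 : ℚ) ≤ f i := by exact_mod_cast hf i (ne_of_mem_erase his)
  have hfj : (2 : ℚ) ≤ f j := by exact_mod_cast hf j (ne_of_mem_erase hjs)
  rw [hzero (fun k => (f k : ℚ) * c k) fun k hk => by simp [hk]] at h1
  rw [hzero (fun k => (c k : ℚ) ^ 2 * (1 - 2 * (c k / f k))) fun k hk => by simp [hk]] at hsum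
  rcases hpm i his with h | h | h <;> rcases hpm j hjs with h' | h' | h' <;>
    (try exact hci h) <;> (try exact hcj h') <;> simp only [h, h'] at h1 hsum <;> push_cast at h1 hsum
  · linarith
  · have e : (f j : ℚ) = f i + 1 := by linarith
    rw [e] at hsum
    field_simp at hsum
    nlinarith
  · have e : (f i : ℚ) = f j + 1 := by linarith
    rw [e] at hsum
    field_simp at hsum
    nlinarith
  · linarith

end Cfsg.Agent.PairsCyclic
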