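import Cfsg.Agent.Lib.PairsCyclic.Galois
import Cfsg.Agent.Lib.PairsCyclic.Arith
import Cfsg.Agent.Lib.Char.Linear
import Cfsg.Agent.Lib.Char.PRegular

/-!
# No simple group satisfies the cyclic pair hypothesis (owner: helper62)
-/

set_option autoImplicit false

open scoped Classical ComplexConjugate

namespace Cfsg.Agent.PairsCyclic

open Cfsg Subgroup

universe u

variable {G : Type u} [Group G] [Fintype G]

theorem apply_ne_apply_one [IsSimpleGroup G] {χ : IrrCharacter G} (hχ : χ ≠ BrauerPairs.oneIrr G) {g : G}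
    (hg : g ≠ 1) : (χ : G → ℂ) g ≠ (χ : G → ℂ) 1 := by
  intro h
  refine hχ ?_
  obtain ⟨n, ρ, hi, he⟩ := χ.2
  rw [← he, Representation.char_one] at h
  have hg' := (Char.character_eq_finrank_iff ρ g).1 h
  have hker : ρ.ker = ⊤ := (MonoidHom.normal_ker ρ).eq_bot_or_eq_top.resolve_left fun hb => hg (by
    have hm : g ∈ ρ.ker := MonoidHom.mem_ker.2 hg'
    rwa [hb, mem_bot] at hm)
  have hconst : ∀ x, (χ : G → ℂ) x = (χ : G → ℂ) 1 := fun x => by
    have hx : ρ x = 1 := MonoidHom.mem_ker.1 (hker ▸ mem_top x)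
    rw [← he, Representation.character, Representation.character, hx, map_one ρ]
  have hn : (χ : G → ℂ) 1 = (Module.finrank ℂ (Fin n → ℂ) : ℂ) := by rw [← he, Representation.char_one]
  have hnorm := Char.classInner_irr_self χ.2
  simp only [classInner, hconst, hn, map_natCast, Finset.sum_const, Finset.card_univ, nsmul_eq_mul,
    ← Nat.card_eq_fintype_card] at hnorm
  rw [← mul_assoc, inv_mul_cancel₀ (Nat.cast_ne_zero.2 Nat.card_pos.ne'), one_mul] at hnorm
  have h1 : Module.finrank ℂ (Fin n → ℂ) = 1 := Nat.eq_one_of_mul_eq_one_right (by exact_mod_cast hnorm)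
  exact Subtype.ext (funext fun x => by rw [hconst, hn, h1]; simp [BrauerPairs.oneIrr])

theorem eq_oneIrr_of_degree [IsSimpleGroup G] (hnc : ¬ ∀ a b : G, a * b = b * a) {χ : IrrCharacter G}
    (h1 : (χ : G → ℂ) 1 = 1) : χ = BrauerPairs.oneIrr G := by
  obtain ⟨l, hl⟩ := Char.exists_hom_of_degree_one (Char.IsIrrCharacter.isCharacter χ.2) h1
  rcases (MonoidHom.normal_ker l).eq_bot_or_eq_top with h | h
  · refine absurd (fun a b => ?_) hnc
    have hinj : Function.Injective l := (MonoidHom.ker_eq_bot_iff l).1 h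
    exact hinj (by rw [map_mul, map_mul, mul_comm])
  · refine Subtype.ext (funext fun x => ?_)
    rw [← hl, MonoidHom.mem_ker.1 (h ▸ mem_top x)]
    rfl

variable {p : ℕ} [hp : Fact p.Prime] (d : Setup p G)

namespace Setup

theorem contradiction [IsSimpleGroup G] (hp2 : p ≠ 2) (hnc : ¬ ∀ a b : G, a * b = b * a)
    (hee : 2 ≤ d.ee) : False := by
  haveI := Fintype.ofFinite (IrrCharacter G)
  set one := BrauerPairs.oneIrr G with hone
  have hp3 : 3 ≤ p := Nat.lt_of_le_of_ne hp.out.two_le (Ne.symm hp2)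
  have hk : 0 < d.Ks.card := Finset.card_pos.2 ⟨1, d.one_mem_Ks⟩
  have hK : (d.Ks.card : ℂ) ≠ 0 := Nat.cast_ne_zero.2 hk.ne'
  have hp1 : ((p - 1 : ℕ) : ℂ) = ((p : ℂ) - 1) := by rw [Nat.cast_sub hp.out.one_le, Nat.cast_one]
  have hp2' : ((p - 2 : ℕ) : ℂ) = ((p : ℂ) - 2) := by rw [Nat.cast_sub hp.out.two_le, Nat.cast_ofNat]
  have hdeg : ∀ χ : IrrCharacter G, ∃ n : ℕ, (χ : G → ℂ) 1 = (n : ℂ) := fun χ => by
    obtain ⟨n, ρ, -, he⟩ := χ.2
    exact ⟨_, by rw [← he, Representation.char_one]⟩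
  choose f hf using hdeg
  have hsig1 : d.sig (one : G → ℂ) = (p : ℂ) - 1 := by
    simp [sig, hone, BrauerPairs.oneIrr, card_Jset, hp1]
  have hbig1 : d.big (one : G → ℂ) = (d.Ks.card : ℂ) * ((p : ℂ) - 1) := by
    simp [big, hone, BrauerPairs.oneIrr, card_Jset, hp1, mul_comm]
  have hxne : d.x ≠ 1 := fun h => hp.out.ne_one (by rw [← d.orderOf_x, h, orderOf_one])
  have horb : ∀ χ : IrrCharacter G, χ ≠ one → ∃ (O : Finset (IrrCharacter G)) (n D : ℕ), χ ∈ O ∧
      (χ : G → ℂ) 1 = (n : ℂ) ∧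
      (∀ ψ ∈ O, d.big (ψ : G → ℂ) = d.big (χ : G → ℂ) ∧ d.sig (ψ : G → ℂ) = d.sig (χ : G → ℂ) ∧
        (ψ : G → ℂ) 1 = (χ : G → ℂ) 1) ∧
      d.sig (χ : G → ℂ) = ((p : ℂ) - 1) * n - (p : ℂ) * D ∧
      p ^ d.a * (p - 1) ≤ O.card * D :=
    fun χ hχ => d.orbit_bound χ (apply_ne_apply_one hχ hxne)
  have hint : ∀ χ : IrrCharacter G, ∃ s : ℤ, d.sig (χ : G → ℂ) = (s : ℂ) := fun χ => by
    by_cases hχ : χ = one
    · exact ⟨(p : ℤ) - 1, by rw [hχ, hsig1]; push_cast; ring⟩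
    · obtain ⟨O, n, D, -, -, -, hs, -⟩ := horb χ hχ
      exact ⟨((p : ℤ) - 1) * n - p * D, by rw [hs]; push_cast; ring⟩
  choose s hs using hint
  let t : IrrCharacter G → ℤ := fun χ => if d.big (χ : G → ℂ) = 0 then 0 else s χ
  have hbig : ∀ χ : IrrCharacter G, d.big (χ : G → ℂ) = (d.Ks.card : ℂ) * (t χ : ℂ) := fun χ => by
    by_cases h : d.big (χ : G → ℂ) = 0
    · simp [t, h]
    · simp only [t, if_neg h, ← hs]
      exact (d.big_cases χ).resolve_left h
  have hts : ∀ χ : IrrCharacter G, (t χ : ℂ) * d.sig (χ : G → ℂ) = (t χ : ℂ) ^ 2 := fun χ => by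
    by_cases h : d.big (χ : G → ℂ) = 0
    · simp [t, h]
    · simp only [t, if_neg h, hs, sq]
  have hconj : ∀ χ : IrrCharacter G, conj (d.big (χ : G → ℂ)) = (d.Ks.card : ℂ) * (t χ : ℂ) := fun χ => by
    rw [hbig, map_mul, map_natCast, map_intCast]
  have hnn : (d.nn : ℂ) = (d.Ks.card : ℂ) * ((d.ee : ℂ) * (p : ℂ) ^ (d.a + 1)) := by
    rw [d.nn_eq, d.cc_eq_mul]
    push_cast
    ring
  have h3 : ∑ χ : IrrCharacter G, ((t χ : ℚ)) ^ 3 / f χ =
      (d.ee : ℚ) * (p : ℚ) ^ (d.a + 1) * ((p : ℚ) - 1) * ((p : ℚ) - 2) := by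
    have h := d.sum_cubes
    rw [hnn, hp1, hp2'] at h
    have e : ∀ χ : IrrCharacter G, conj (d.big (χ : G → ℂ)) * d.sig (χ : G → ℂ) ^ 2 / (χ : G → ℂ) 1 =
        (d.Ks.card : ℂ) * ((t χ : ℂ) ^ 3 / (f χ : ℂ)) := fun χ => by
      rw [hconj, hf]
      linear_combination ((d.Ks.card : ℂ) * (d.sig (χ : G → ℂ) + t χ) / (f χ : ℂ)) * hts χ
    rw [Finset.sum_congr rfl fun χ _ => e χ, ← Finset.mul_sum, mul_assoc, mul_assoc,
      mul_right_inj' hK] at h
    apply (Rat.cast_injective : Function.Injective ((↑) : ℚ → ℂ))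
    push_cast
    linear_combination h
  have h2 : ∑ χ : IrrCharacter G, (t χ : ℚ) ^ 2 = ((p : ℚ) - 1) * d.ee * (p : ℚ) ^ (d.a + 1) := by
    have h := d.sum_sig_big
    rw [hnn, hp1] at h
    have e : ∀ χ : IrrCharacter G, d.sig (χ : G → ℂ) * conj (d.big (χ : G → ℂ)) =
        (d.Ks.card : ℂ) * (t χ : ℂ) ^ 2 := fun χ => by
      rw [hconj, ← hts χ]
      ring
    rw [Finset.sum_congr rfl fun χ _ => e χ, ← Finset.mul_sum, mul_left_comm, mul_right_inj' hK] at h
    apply (Rat.cast_injective : Function.Injective ((↑) : ℚ → ℂ))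
    push_cast
    linear_combination h
  have h1 : ∑ χ : IrrCharacter G, (f χ : ℚ) * (t χ : ℚ) = 0 := by
    have h := d.sum_deg_big
    have e : ∀ χ : IrrCharacter G, (χ : G → ℂ) 1 * conj (d.big (χ : G → ℂ)) =
        (d.Ks.card : ℂ) * ((f χ : ℂ) * (t χ : ℂ)) := fun χ => by
      rw [hconj, hf]
      ring
    rw [Finset.sum_congr rfl fun χ _ => e χ, ← Finset.mul_sum, mul_eq_zero] at h
    apply (Rat.cast_injective : Function.Injective ((↑) : ℚ → ℂ))
    push_cast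
    exact h.resolve_left hK
  have hfone : f one = 1 := by
    have h := hf one
    simp only [hone, BrauerPairs.oneIrr] at h
    exact_mod_cast h.symm
  have htone : t one = (p : ℤ) - 1 := by
    have hb : d.big (one : G → ℂ) ≠ 0 := by
      rw [hbig1, ← hp1]
      exact mul_ne_zero hK (Nat.cast_ne_zero.2 (Nat.sub_pos_of_lt hp.out.one_lt).ne')
    simp only [t, if_neg hb]
    apply Int.cast_injective (α := ℂ)
    rw [← hs, hsig1]
    push_cast
    ring
  have hf2 : ∀ χ : IrrCharacter G, χ ≠ one → 2 ≤ f χ := by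
    intro χ hχ
    have h0 : f χ ≠ 0 := fun h0 => Char.IsIrrCharacter.apply_one_ne_zero χ.2 (by rw [hf, h0, Nat.cast_zero])
    have h1 : f χ ≠ 1 := fun h1 => hχ (eq_oneIrr_of_degree hnc (by rw [hf, h1, Nat.cast_one]))
    omega
  have hdiv : ∀ χ : IrrCharacter G, t χ ≠ 0 → χ ≠ one → ∃ D : ℕ, t χ = ((p : ℤ) - 1) * f χ - p * D := by
    intro χ ht hχ
    obtain ⟨O, n, D, -, hn, -, hsn, -⟩ := horb χ hχ
    have hb : ¬ d.big (χ : G → ℂ) = 0 := fun hb => ht (by simp [t, hb])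
    have hnf : n = f χ := Nat.cast_injective (R := ℂ) (hn.symm.trans (hf χ))
    refine ⟨D, ?_⟩
    simp only [t, if_neg hb]
    apply Int.cast_injective (α := ℂ)
    rw [← hs, hsn, hnf]
    push_cast
    ring
  have hb : ∀ χ : IrrCharacter G, χ ≠ one → t χ ≠ 0 →
      t χ ^ 2 ≤ ((p : ℤ) - 1) * (((p : ℤ) - 1) * f χ - t χ) := by
    intro χ hχ ht
    obtain ⟨O, n, D, hmem, hn, hO, hsn, hcard⟩ := horb χ hχ
    have hb : ¬ d.big (χ : G → ℂ) = 0 := fun hb => ht (by simp [t, hb])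
    have hnf : n = f χ := Nat.cast_injective (R := ℂ) (hn.symm.trans (hf χ))
    have hpD : ((p : ℤ) - 1) * f χ - t χ = p * D := by
      apply Int.cast_injective (α := ℂ)
      simp only [t, if_neg hb]
      push_cast
      rw [← hs, hsn, hnf]
      ring
    rw [hpD]
    have hteq : ∀ ψ ∈ O, t ψ = t χ := fun ψ hψ => by
      apply Int.cast_injective (α := ℂ)
      exact mul_left_cancel₀ hK ((hbig ψ).symm.trans ((hO ψ hψ).1.trans (hbig χ)))
    have hS : ((O.card : ℚ)) * (t χ : ℚ) ^ 2 ≤ ((p : ℚ) - 1) * d.ee * (p : ℚ) ^ (d.a + 1) := by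
      rw [← h2]
      calc ((O.card : ℚ)) * (t χ : ℚ) ^ 2 = ∑ ψ ∈ O, (t ψ : ℚ) ^ 2 := by
            rw [Finset.sum_congr rfl fun ψ hψ => by rw [hteq ψ hψ], Finset.sum_const, nsmul_eq_mul]
        _ ≤ _ := Finset.sum_le_sum_of_subset_of_nonneg (Finset.subset_univ _) fun _ _ _ => sq_nonneg _
    have hcardq : (p : ℚ) ^ d.a * ((p : ℚ) - 1) ≤ (O.card : ℚ) * D := by
      have h : ((p ^ d.a * (p - 1) : ℕ) : ℚ) ≤ ((O.card * D : ℕ) : ℚ) := Nat.cast_le.2 hcard
      push_cast [Nat.cast_sub hp.out.one_le] at h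
      exact h
    have hee' : (d.ee : ℚ) ≤ (p : ℚ) - 1 := by
      have h : ((d.ee : ℕ) : ℚ) ≤ ((p - 1 : ℕ) : ℚ) := Nat.cast_le.2 d.ee_le
      rwa [Nat.cast_sub hp.out.one_le, Nat.cast_one] at h
    have hO0 : (0 : ℚ) < O.card := Nat.cast_pos.2 (Finset.card_pos.2 ⟨χ, hmem⟩)
    have hp0 : (0 : ℚ) < (p : ℚ) - 1 := sub_pos.2 (by exact_mod_cast hp.out.one_lt)
    have hq : (t χ : ℚ) ^ 2 ≤ ((p : ℚ) - 1) * ((p : ℚ) * D) := by
      refine le_of_mul_le_mul_left ?_ hO0
      calc (O.card : ℚ) * (t χ : ℚ) ^ 2 ≤ ((p : ℚ) - 1) * d.ee * (p : ℚ) ^ (d.a + 1) := hS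
        _ ≤ ((p : ℚ) - 1) * ((p : ℚ) - 1) * (p : ℚ) ^ (d.a + 1) := by
          gcongr
        _ = ((p : ℚ) - 1) * (p : ℚ) * ((p : ℚ) ^ d.a * ((p : ℚ) - 1)) := by ring
        _ ≤ ((p : ℚ) - 1) * (p : ℚ) * ((O.card : ℚ) * D) := by
          gcongr
        _ = _ := by ring
    exact_mod_cast hq
  rcases Nat.lt_or_ge p 5 with h5 | h5
  · -- `p = 3`
    obtain rfl : p = 3 := by
      have : p ≠ 4 := fun h => by rw [h] at hp; exact absurd hp.out (by norm_num)
      omega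
    have he2 : d.ee = 2 := by
      have := d.ee_le
      omega
    have hall : ∀ j ∈ Jset 3, IsConj d.x (d.x ^ j) := by
      have h := he2
      rw [ee] at h
      exact Finset.card_filter_eq_iff.1 (h.trans (card_Jset (p := 3)).symm)
    have heven : ∀ χ : IrrCharacter G, ∃ c : ℤ, s χ = 2 * c := by
      intro χ
      have hsx : ((2 : ℕ) : ℂ) * (χ : G → ℂ) d.x = ((s χ : ℤ) : ℂ) := by
        rw [← hs, sig, Finset.sum_congr rfl fun j hj => ((Char.isConj_iff_irr d.x (d.x ^ j)).1 (hall j hj) χ).symm,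
          Finset.sum_const, card_Jset, nsmul_eq_mul]
      obtain ⟨c, hc⟩ := Char.exists_int_of_isIntegral_mul two_ne_zero hsx
        (Char.IsCharacter.isIntegral (Char.IsIrrCharacter.isCharacter χ.2) d.x)
      refine ⟨c, Int.cast_injective (α := ℂ) ?_⟩
      rw [← hsx, hc]
      push_cast
      ring
    choose c hc using heven
    let c' : IrrCharacter G → ℤ := fun χ => if d.big (χ : G → ℂ) = 0 then 0 else c χ
    have htc : ∀ χ : IrrCharacter G, t χ = 2 * c' χ := fun χ => by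
      by_cases h : d.big (χ : G → ℂ) = 0 <;> simp [t, c', h, hc]
    set U : Finset (IrrCharacter G) := Finset.univ.filter fun χ => c' χ ≠ 0 with hU
    have hcone : c' one = 1 := by
      have h := htc one
      rw [htone] at h
      push_cast at h
      omega
    have hsub : ∀ g : IrrCharacter G → ℚ, (∀ χ : IrrCharacter G, c' χ = 0 → g χ = 0) →
        ∑ χ : {χ // χ ∈ U}, g χ = ∑ χ : IrrCharacter G, g χ := fun g hg => by
      rw [← Finset.sum_coe_sort U g |>.symm]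
      exact Finset.sum_filter_of_ne fun χ _ h h' => h (hg χ h')
    refine no_solution_three (a := d.a) (i₀ := (⟨one, by simp [hU, hcone]⟩ : {χ // χ ∈ U}))
      (c := fun χ => c' χ.1) (f := fun χ => f χ.1) hcone hfone
      (fun χ hχ => hf2 χ.1 fun h => hχ (Subtype.ext h)) ?_ ?_ ?_ ?_ ?_
    · rintro ⟨χ, hχ⟩
      rw [hU, Finset.mem_filter] at hχ
      show (3 : ℤ) ∣ (f χ : ℤ) - c' χ
      by_cases h1 : χ = one
      · subst h1
        rw [hfone, hcone]
        simp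
      · obtain ⟨D, hD⟩ := hdiv χ (by rw [htc]; exact mul_ne_zero two_ne_zero hχ.2) h1
        rw [htc] at hD
        push_cast at hD
        omega
    · rintro ⟨χ, hχ⟩ hne hc0
      have h := hb χ (fun h => hne (Subtype.ext h)) (by rw [htc]; exact mul_ne_zero two_ne_zero hc0)
      rw [htc] at h
      push_cast at h
      show c' χ ^ 2 ≤ (f χ : ℤ) - c' χ
      nlinarith
    · rw [hsub (fun χ => (c' χ : ℚ) ^ 3 / (f χ : ℚ)) fun χ h => by simp [h]]
      simp only [htc, he2, mul_pow, Int.cast_mul, mul_div_assoc, ← Finset.mul_sum] at h3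
      push_cast at h3
      linarith
    · rw [hsub (fun χ => (c' χ : ℚ) ^ 2) fun χ h => by simp [h]]
      simp only [htc, he2, mul_pow, Int.cast_mul, ← Finset.mul_sum] at h2
      push_cast at h2
      linarith
    · rw [hsub (fun χ => (f χ : ℚ) * c' χ) fun χ h => by simp [h]]
      simp only [htc, Int.cast_mul, mul_left_comm _ ((2 : ℤ) : ℚ), ← Finset.mul_sum] at h1
      push_cast at h1
      linarith
  · refine no_solution_large (q := p ^ (d.a + 1)) (e := d.ee) h5 (Nat.le_self_pow (Nat.succ_ne_zero _) p) hee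
      (i₀ := one) (t := t) (f := f) htone hfone hf2 hb ?_ ?_
    · rw [h3, Nat.cast_pow]
    · rw [h2, Nat.cast_pow]

end Setup

end Cfsg.Agent.PairsCyclic
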