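import Cfsg.Agent.Lib.PairsCyclic.Sums
import Cfsg.Agent.Lib.GaloisPow.Twist

/-!
# Galois orbits in the cyclic pair count (owner: helper62)

`orbit_bound`: a character with `χ x ≠ χ 1` lies in a set of at least `φ(q) / D` characters with the same
`σ`, `A` and degree, where `pD = (p-1) χ1 - σ`; in particular `φ(q) ≤ |O| D`.
-/

set_option autoImplicit false

open scoped Classical ComplexConjugate

namespace Cfsg.Agent.PairsCyclic

open Cfsg Subgroup

universe u

theorem geom_sum_unity {K : Type*} [Field K] {N : ℕ} {r : K} (hr : r ^ N = 1) :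
    ∑ n ∈ Finset.range N, r ^ n = if r = 1 then (N : K) else 0 := by
  split_ifs with h
  · simp [h]
  · rw [geom_sum_eq h, hr, sub_self, zero_div]

theorem exists_eq_of_power_sums {ι : Type*} [Fintype ι] {N : ℕ} (hN : 0 < N) {μ ν : ι → ℂ}
    (hμ : ∀ i, μ i ^ N = 1) (hν : ∀ i, ν i ^ N = 1)
    (h : ∀ n : ℕ, ∑ i, μ i ^ n = ∑ i, ν i ^ n) (i : ι) : ∃ j, ν j = μ i := by
  have hi : μ i ≠ 0 := fun h0 => by simpa [h0, hN.ne'] using hμ i
  have key : ∀ w : ι → ℂ, (∀ j, w j ^ N = 1) →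
      ∑ n ∈ Finset.range N, ((μ i)⁻¹) ^ n * ∑ j, w j ^ n =
        ((Finset.univ.filter fun j => w j = μ i).card : ℂ) * N := by
    intro w hw
    simp only [Finset.mul_sum, ← mul_pow]
    rw [Finset.sum_comm]
    rw [Finset.sum_congr rfl fun j _ => geom_sum_unity
      (show ((μ i)⁻¹ * w j) ^ N = 1 by rw [mul_pow, inv_pow, hμ i, hw j, inv_one, one_mul])]
    rw [← Finset.sum_filter, Finset.sum_const, nsmul_eq_mul]
    congr 3
    ext j
    simp [inv_mul_eq_one₀ hi, eq_comm]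
  have h1 := key μ hμ
  have h2 := key ν hν
  simp only [h] at h1
  rw [h2] at h1
  have hc : (Finset.univ.filter fun j => ν j = μ i).card = (Finset.univ.filter fun j => μ j = μ i).card :=
    Nat.cast_injective (R := ℂ) (mul_right_cancel₀ (Nat.cast_ne_zero.2 hN.ne') h1)
  have hpos : 0 < (Finset.univ.filter fun j => ν j = μ i).card := by
    rw [hc]
    exact Finset.card_pos.2 ⟨i, by simp⟩
  obtain ⟨j, hj⟩ := Finset.card_pos.1 hpos
  exact ⟨j, (Finset.mem_filter.1 hj).2⟩

variable {G : Type u} [Group G] [Fintype G] {p : ℕ} [hp : Fact p.Prime] (d : Setup p G)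

namespace Setup

/-- reindexing the exponents by a multiplier prime to `p` -/
theorem sum_Jset_mul {k : ℕ} (hk : k.Coprime p) (f : G → ℂ) :
    ∑ j ∈ Jset p, f (d.x ^ (j * k)) = ∑ j ∈ Jset p, f (d.x ^ j) := by
  have hinj : Set.InjOn (fun j => j * k % p) (Jset p : Set ℕ) := by
    intro i hi j hj h
    have h1 : i * k ≡ j * k [MOD p] := h
    have h2 := Nat.ModEq.cancel_right_of_coprime (by rwa [Nat.gcd_comm]) h1
    exact Nat.ModEq.eq_of_lt_of_lt h2 (Finset.mem_range.1 (Finset.mem_erase.1 hi).2)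
      (Finset.mem_range.1 (Finset.mem_erase.1 hj).2)
  have hmaps : Set.MapsTo (fun j => j * k % p) (Jset p : Set ℕ) (Jset p : Set ℕ) := by
    intro j hj
    refine Finset.mem_erase.2 ⟨fun h0 => ?_, Finset.mem_range.2 (Nat.mod_lt _ hp.out.pos)⟩
    have hd := (hk.symm).dvd_of_dvd_mul_right (Nat.dvd_of_mod_eq_zero h0)
    exact (Finset.mem_erase.1 hj).1 (Nat.eq_zero_of_dvd_of_lt hd
      (Finset.mem_range.1 (Finset.mem_erase.1 hj).2))
  refine Finset.sum_nbij (fun j => j * k % p) hmaps hinj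
    (Finset.surjOn_of_injOn_of_card_le _ hmaps hinj le_rfl) fun j _ => ?_
  show f (d.x ^ (j * k)) = f (d.x ^ (j * k % p))
  rw [← pow_mod_orderOf d.x, d.orderOf_x]

theorem orbit_bound [Fintype (IrrCharacter G)] (χ : IrrCharacter G)
    (hx : (χ : G → ℂ) d.x ≠ (χ : G → ℂ) 1) :
    ∃ (O : Finset (IrrCharacter G)) (n D : ℕ), χ ∈ O ∧ (χ : G → ℂ) 1 = (n : ℂ) ∧
      (∀ ψ ∈ O, d.big (ψ : G → ℂ) = d.big (χ : G → ℂ) ∧ d.sig (ψ : G → ℂ) = d.sig (χ : G → ℂ) ∧
        (ψ : G → ℂ) 1 = (χ : G → ℂ) 1) ∧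
      d.sig (χ : G → ℂ) = ((p : ℂ) - 1) * n - (p : ℂ) * D ∧
      p ^ d.a * (p - 1) ≤ O.card * D := by
  obtain ⟨n, ρ, hi, he⟩ := χ.2
  obtain ⟨b, μ, hμ, hroot⟩ := Char.exists_eigenbasis ρ d.u
  set q := p ^ (d.a + 1) with hq
  rw [d.orderOf_u] at hroot
  haveI : NeZero q := ⟨pow_ne_zero _ hp.out.ne_zero⟩
  have hpow : ∀ t : ℕ, (χ : G → ℂ) (d.u ^ t) = ∑ i, μ i ^ t := fun t => by
    rw [← he]
    exact Char.character_pow ρ d.u b μ hμ t
  have hn : (χ : G → ℂ) 1 = ((Fintype.card (Fin (Module.finrank ℂ (Fin n → ℂ))) : ℕ) : ℂ) := by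
    rw [← pow_zero d.u, hpow]
    simp
  set D := (Finset.univ.filter fun i => ¬ μ i ^ (p ^ d.a) = 1).card with hD
  have hν : ∀ i, (μ i ^ (p ^ d.a)) ^ p = 1 := fun i => by rw [← pow_mul, ← pow_succ, hroot i]
  have hsig : d.sig (χ : G → ℂ) =
      ((p : ℂ) - 1) * (Fintype.card (Fin (Module.finrank ℂ (Fin n → ℂ))) : ℕ) - (p : ℂ) * D := by
    rw [sig]
    simp only [d.x_eq, ← pow_mul, hpow]
    rw [Finset.sum_comm]
    have h1 : ∀ i, ∑ j ∈ Jset p, μ i ^ (p ^ d.a * j) =
        ((p : ℂ) - 1) - if ¬ μ i ^ (p ^ d.a) = 1 then (p : ℂ) else 0 := fun i => by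
      simp only [pow_mul]
      rw [Jset, Finset.sum_erase_eq_sub (Finset.mem_range.2 hp.out.pos), geom_sum_unity (hν i), pow_zero]
      split_ifs <;> simp
    rw [Finset.sum_congr rfl fun i _ => h1 i, Finset.sum_sub_distrib, ← Finset.sum_filter, Finset.sum_const,
      Finset.sum_const, Finset.card_univ, nsmul_eq_mul, nsmul_eq_mul, hD]
    ring
  obtain ⟨i₀, hi₀⟩ : ∃ i, ¬ μ i ^ (p ^ d.a) = 1 := by
    by_contra hall
    simp only [not_exists, not_not] at hall
    refine hx ?_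
    rw [d.x_eq, hpow, hn]
    simp [hall]
  have hord : orderOf (μ i₀) = q := orderOf_eq_prime_pow hi₀ (hroot i₀)
  -- lifts of the units
  have hcr : ∀ k : (ZMod q)ˣ, ∃ t : ℕ, t ≡ (k : ZMod q).val [MOD q] ∧ t ≡ 1 [MOD d.m] := fun k =>
    ⟨_, (Nat.chineseRemainder d.coprime_q_m (k : ZMod q).val 1).2⟩
  choose L hLq hLm using hcr
  have hLcop : ∀ k, (L k).Coprime (Nat.card G) := fun k => by
    rw [d.card_G]
    refine Nat.Coprime.mul_right ?_ ?_
    · exact (hLq k).gcd_eq.trans (ZMod.val_coe_unit_coprime k)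
    · exact (hLm k).gcd_eq.trans (Nat.gcd_one_left _)
  let F : (ZMod q)ˣ → IrrCharacter G := fun k => GaloisPow.powIrr (hLcop k) χ
  refine ⟨Finset.univ.image F, _, D, ?_, hn, ?_, hsig, ?_⟩
  · refine Finset.mem_image.2 ⟨1, Finset.mem_univ _, Subtype.ext (funext fun g => ?_)⟩
    rw [GaloisPow.powIrr_apply]
    conv_rhs => rw [← pow_one g]
    refine congrArg _ (pow_eq_pow_iff_modEq.2 (Nat.ModEq.of_dvd (d.card_G ▸ orderOf_dvd_natCard g)
      ((Nat.modEq_and_modEq_iff_modEq_mul d.coprime_q_m).1 ⟨?_, hLm 1⟩)))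
    have h1 := hLq 1
    rwa [Units.val_one, ZMod.val_one'' (by
      rw [hq]; exact (Nat.one_lt_pow (Nat.succ_ne_zero _) hp.out.one_lt).ne')] at h1
  · intro ψ hψ
    obtain ⟨k, -, rfl⟩ := Finset.mem_image.1 hψ
    have hkp : (L k).Coprime p := by
      refine (hLcop k).coprime_dvd_right ?_
      rw [d.card_G, pow_succ, mul_right_comm]
      exact dvd_mul_left p _
    refine ⟨?_, ?_, ?_⟩
    · simp only [F, big, GaloisPow.powIrr_apply]
      rw [← d.sum_Jset_mul hkp fun z => ∑ y ∈ d.Ks, (χ : G → ℂ) (z * y)]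
      refine Finset.sum_congr rfl fun j _ => Finset.sum_congr rfl fun y hy => congrArg _ ?_
      obtain ⟨hc, hm⟩ := d.mem_Ks.1 hy
      rw [(hc.symm.pow_left j).mul_pow, ← pow_mul]
      congr 1
      conv_rhs => rw [← pow_one y]
      exact pow_eq_pow_iff_modEq.2 ((hLm k).of_dvd (orderOf_dvd_of_pow_eq_one hm))
    · simp only [F, sig, GaloisPow.powIrr_apply, ← pow_mul]
      exact d.sum_Jset_mul hkp _
    · simp only [F, GaloisPow.powIrr_apply, one_pow]
  · set H : Finset ((ZMod q)ˣ) := Finset.univ.filter fun h : (ZMod q)ˣ =>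
      ∀ t : ℕ, (χ : G → ℂ) (d.u ^ (t * (h : ZMod q).val)) = (χ : G → ℂ) (d.u ^ t) with hH
    have hstab : H.card ≤ D := by
      have hex : ∀ h ∈ H, ∃ j, μ j = μ i₀ ^ (h : ZMod q).val := by
        intro h hh
        refine exists_eq_of_power_sums (μ := fun i => μ i ^ (h : ZMod q).val) (NeZero.pos q)
          (fun i => by rw [← pow_mul, mul_comm, pow_mul, hroot i, one_pow]) hroot (fun t => ?_) i₀
        simp only [← pow_mul]
        rw [← hpow, ← hpow, mul_comm]
        exact (Finset.mem_filter.1 hh).2 t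
      choose g hg using hex
      refine Finset.card_le_card_of_injOn (fun h => if hh : h ∈ H then g h hh else i₀) ?_ ?_
      · intro h hh
        rw [Finset.mem_coe] at hh
        simp only [Finset.mem_coe, Finset.mem_filter, Finset.mem_univ, true_and, dif_pos hh, hg]
        intro h1
        rw [← pow_mul, mul_comm, pow_mul] at h1
        refine hi₀ ?_
        obtain ⟨c, hc⟩ := exists_pow_eq_self_of_coprime (x := μ i₀ ^ (p ^ d.a))
          (n := (h : ZMod q).val) (Nat.Coprime.coprime_dvd_right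
            (by exact (orderOf_dvd_of_pow_eq_one (hν i₀)).trans (dvd_pow_self p (Nat.succ_ne_zero d.a)))
            (ZMod.val_coe_unit_coprime h))
        rw [← hc, h1, one_pow]
      · intro h1 hh1 h2 hh2 heq
        rw [Finset.mem_coe] at hh1 hh2
        simp only [dif_pos hh1, dif_pos hh2] at heq
        have e : μ i₀ ^ (h1 : ZMod q).val = μ i₀ ^ (h2 : ZMod q).val := by rw [← hg h1 hh1, ← hg h2 hh2, heq]
        refine Units.ext (ZMod.val_injective q ?_)
        exact pow_injOn_Iio_orderOf (by rw [Set.mem_Iio, hord]; exact ZMod.val_lt _)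
          (by rw [Set.mem_Iio, hord]; exact ZMod.val_lt _) e
    have hfib : (Finset.univ : Finset ((ZMod q)ˣ)).card ≤ H.card * (Finset.univ.image F).card := by
      refine Finset.card_le_mul_card_image _ _ fun ψ hψ => ?_
      obtain ⟨l, -, rfl⟩ := Finset.mem_image.1 hψ
      refine Finset.card_le_card_of_injOn (fun k => l⁻¹ * k) ?_ fun a _ b _ h => mul_left_cancel h
      intro k hk
      simp only [Finset.mem_coe, Finset.mem_filter, Finset.mem_univ, true_and] at hk
      simp only [hH, Finset.mem_coe, Finset.mem_filter, Finset.mem_univ, true_and]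
      intro t
      have hcast : ∀ k : (ZMod q)ˣ, ((L k : ℕ) : ZMod q) = (k : ZMod q) := fun k => by
        rw [(ZMod.natCast_eq_natCast_iff _ _ _).2 (hLq k), ZMod.natCast_zmod_val]
      have h := congrFun (congrArg Subtype.val hk) (d.u ^ (t * ((l⁻¹ : (ZMod q)ˣ) : ZMod q).val))
      simp only [F, GaloisPow.powIrr_apply, ← pow_mul] at h
      have e1 : d.u ^ (t * ((l⁻¹ : (ZMod q)ˣ) : ZMod q).val * L k) =
          d.u ^ (t * ((l⁻¹ * k : (ZMod q)ˣ) : ZMod q).val) := by
        rw [pow_eq_pow_iff_modEq, d.orderOf_u, ← ZMod.natCast_eq_natCast_iff]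
        push_cast [ZMod.natCast_zmod_val, hcast]
        ring
      have e2 : d.u ^ (t * ((l⁻¹ : (ZMod q)ˣ) : ZMod q).val * L l) = d.u ^ t := by
        rw [pow_eq_pow_iff_modEq, d.orderOf_u, ← ZMod.natCast_eq_natCast_iff]
        push_cast [ZMod.natCast_zmod_val, hcast]
        rw [mul_assoc, ← Units.val_mul, inv_mul_cancel, Units.val_one, mul_one]
      rwa [e1, e2] at h
    rw [Finset.card_univ, ZMod.card_units_eq_totient] at hfib
    replace hfib : (p ^ (d.a + 1)).totient ≤ _ := hfib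
    rw [Nat.totient_prime_pow_succ hp.out] at hfib
    rw [mul_comm (Finset.univ.image F).card]
    exact hfib.trans (Nat.mul_le_mul_right _ hstab)

end Setup

end Cfsg.Agent.PairsCyclic
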