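import Cfsg.Agent.Lib.PairsCyclic.Count
import Cfsg.Agent.Lib.PLocal.ActionStable
import Cfsg.Agent.Lib.Cores.Basic

/-!
# `p`-solvability from pairs of elements of order `p`, cyclic Sylow case (owner: helper62)

`isPSolvable_of_pairs`: cyclic Sylow `p`-subgroups and all pairs of elements of order `p` generating
`p`-solvable subgroups imply `p`-solvability.
-/

set_option autoImplicit false

open scoped Classical

namespace Cfsg.Agent.PairsCyclic

open Cfsg Subgroup

universe u

/-- every two elements of order `p` generate a `p`-solvable subgroup -/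
def Pairs (p : ℕ) (G : Type u) [Group G] : Prop :=
  ∀ x y : G, orderOf x = p → orderOf y = p → Cfsg.IsPSolvable p ↥(closure ({x, y} : Set G))

variable {G : Type u} [Group G] [Finite G] {p : ℕ} [hp : Fact p.Prime]

theorem pairs_subgroup (h : Pairs p G) (H : Subgroup G) : Pairs p H := by
  intro x y hx hy
  rw [← Subgroup.orderOf_coe] at hx hy
  have e : (closure ({x, y} : Set H)).map H.subtype = closure ({(x : G), (y : G)} : Set G) := by
    rw [MonoidHom.map_closure, Set.image_insert_eq, Set.image_singleton]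
    rfl
  let i := ((closure ({x, y} : Set H)).equivMapOfInjective H.subtype H.subtype_injective).trans
    (MulEquiv.subgroupCongr e)
  exact PLocal.isPSolvable_surjective (h x y hx hy) i.symm.toMonoidHom i.symm.surjective

theorem pairs_quotient (h : Pairs p G) (N : Subgroup G) [N.Normal] (hN : ¬ p ∣ Nat.card N) :
    Pairs p (G ⧸ N) := by
  have lift : ∀ z : G ⧸ N, orderOf z = p → ∃ a : G, QuotientGroup.mk' N a = z ∧ orderOf a = p := by
    intro z hz
    obtain ⟨g, rfl⟩ := QuotientGroup.mk'_surjective N z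
    obtain ⟨a, b, hab, -, hb, ⟨k, hk⟩, hbc⟩ := Transfer.exists_pPart_mul (p := p) g
    have hb1 : QuotientGroup.mk' N b = 1 := by
      obtain ⟨i, rfl⟩ := hb
      rw [← orderOf_eq_one_iff]
      refine Nat.eq_one_of_dvd_coprimes hbc (orderOf_map_dvd _ _) (orderOf_dvd_of_pow_eq_one ?_)
      show (QuotientGroup.mk' N (g ^ i)) ^ p = 1
      rw [map_zpow, ← zpow_natCast, ← zpow_mul, mul_comm, zpow_mul, zpow_natCast, ← hz, pow_orderOf_eq_one,
        one_zpow]
    have hag : QuotientGroup.mk' N a = QuotientGroup.mk' N g := by rw [hab, map_mul, hb1, mul_one]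
    refine ⟨a, hag, orderOf_eq_prime ?_ fun h1 => ?_⟩
    · rw [← orderOf_eq_one_iff]
      have hmem : a ^ p ∈ N := by
        rw [← QuotientGroup.eq_one_iff]
        show QuotientGroup.mk' N (a ^ p) = 1
        rw [map_pow, hag, ← hz, pow_orderOf_eq_one]
      exact Nat.eq_one_of_dvd_coprimes ((hp.out.coprime_iff_not_dvd.2 hN).pow_left k)
        (hk ▸ orderOf_pow_dvd p) (Subgroup.orderOf_dvd_natCard N hmem)
    · rw [h1, map_one] at hag
      rw [← hag, orderOf_one] at hz
      exact hp.out.ne_one hz.symm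
  intro x y hx hy
  obtain ⟨a, rfl, ha⟩ := lift x hx
  obtain ⟨b, rfl, hb⟩ := lift y hy
  have e : (closure ({a, b} : Set G)).map (QuotientGroup.mk' N) =
      closure ({QuotientGroup.mk' N a, QuotientGroup.mk' N b} : Set (G ⧸ N)) := by
    rw [MonoidHom.map_closure, Set.image_insert_eq, Set.image_singleton]
  exact PLocal.isPSolvable_surjective (h a b ha hb)
    ((MulEquiv.subgroupCongr e).toMonoidHom.comp ((QuotientGroup.mk' N).subgroupMap _))
    ((MulEquiv.subgroupCongr e).surjective.comp ((QuotientGroup.mk' N).subgroupMap_surjective _))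

/-- A group with cyclic Sylow `p`-subgroups and a nontrivial normal `p`-subgroup is `p`-solvable. -/
theorem isPSolvable_of_normal_pGroup (P : Sylow p G) (hP : IsCyclic P) {N : Subgroup G} [N.Normal]
    (hN : IsPGroup p N) (hne : N ≠ ⊥) : Cfsg.IsPSolvable p G := by
  obtain ⟨j, hj⟩ := hN.exists_card_eq
  have hpd : p ∣ Nat.card N := by
    have h1 := (one_lt_card_iff_ne_bot N).2 hne
    rw [hj] at h1 ⊢
    exact dvd_pow_self p (fun h0 => by simp [h0] at h1)
  obtain ⟨w', hw'⟩ := exists_prime_orderOf_dvd_card' p hpd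
  set w : G := (w' : G) with hwdef
  have hw : orderOf w = p := by rw [hwdef, Subgroup.orderOf_coe, hw']
  have hΩ : ∀ g : G, g * w * g⁻¹ ∈ zpowers w := fun g =>
    mem_zpowers_of_cyclic (isCyclic_of_isPGroup P hP hN) w'.2
      (‹N.Normal›.conj_mem w w'.2 g) (by rw [hw, conj_pow, ← hw, pow_orderOf_eq_one, mul_one, mul_inv_cancel])
  set C := centralizer ({w} : Set G) with hC
  have hcomm : ∀ g h : G, (g * h) * w * (g * h)⁻¹ = (h * g) * w * (h * g)⁻¹ := by
    intro g h
    obtain ⟨i, hi⟩ := hΩ g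
    obtain ⟨k, hk⟩ := hΩ h
    dsimp only at hi hk
    rw [show (g * h) * w * (g * h)⁻¹ = g * (h * w * h⁻¹) * g⁻¹ by group,
      show (h * g) * w * (h * g)⁻¹ = h * (g * w * g⁻¹) * h⁻¹ by group, ← hk, ← hi, ← conj_zpow, ← conj_zpow,
      ← hi, ← hk, ← zpow_mul, ← zpow_mul, mul_comm]
  haveI hCn : C.Normal := by
    refine ⟨fun c hc g => ?_⟩
    rw [hC, mem_centralizer_singleton_iff] at hc ⊢
    obtain ⟨i, hi⟩ := hΩ g⁻¹
    dsimp only at hi
    rw [inv_inv] at hi
    have h1 : Commute c (g⁻¹ * w * g) := hi ▸ (show Commute c w from hc).zpow_right i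
    calc g * c * g⁻¹ * w = g * (c * (g⁻¹ * w * g)) * g⁻¹ := by group
      _ = g * ((g⁻¹ * w * g) * c) * g⁻¹ := by rw [h1.eq]
      _ = w * (g * c * g⁻¹) := by group
  have hwC : w ∈ C := mem_centralizer_singleton_iff.2 rfl
  obtain ⟨Q⟩ := (inferInstance : Nonempty (Sylow p C))
  have hQc := isCyclic_sylow_subgroup P hP C Q
  have hcomplC : HasNormalPComplement p C := by
    have hcen : ∀ c : C, c * (⟨w, hwC⟩ : C) = ⟨w, hwC⟩ * c := fun c =>
      Subtype.ext (mem_centralizer_singleton_iff.1 c.2)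
    haveI : (zpowers (⟨w, hwC⟩ : C)).Normal := by
      refine ⟨?_⟩
      rintro _ ⟨i, rfl⟩ c
      dsimp only
      rw [((show Commute c (⟨w, hwC⟩ : C) from hcen c).zpow_right i).eq, mul_inv_cancel_right]
      exact ⟨i, rfl⟩
    have hwQ : (⟨w, hwC⟩ : C) ∈ (Q : Subgroup C) := by
      have hpg := (IsPGroup.of_card (n := 1) (p := p) (G := zpowers (⟨w, hwC⟩ : C))
        (by rw [pow_one, Nat.card_zpowers, Subgroup.orderOf_mk, hw])).to_sup_of_normal_left Q.2
      exact (Q.is_maximal' hpg le_sup_right).le (le_sup_left (b := (Q : Subgroup C)) (mem_zpowers _))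
    refine hasNormalPComplement_of_fix Q hQc hwQ (fun h => hp.out.ne_one ?_)
      fun c _ => by rw [hcen c, mul_inv_cancel_right]
    rw [← hw, ← Subgroup.orderOf_mk w hwC, h, orderOf_one]
  haveI hKn : ((Cfsg.pPrimeCore p C).map C.subtype).Normal :=
    Cores.map_subtype_normal_of_characteristic C _
  set K := (Cfsg.pPrimeCore p C).map C.subtype with hK
  refine ClassIndex.isPSolvable_of_ext K (Or.inr ?_) ?_
  · rw [hK, card_map_of_injective C.subtype_injective]
    exact Cores.coprime_card_pPrimeCore p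
  haveI hCbn : (C.map (QuotientGroup.mk' K)).Normal := hCn.map _ (QuotientGroup.mk'_surjective K)
  refine ClassIndex.isPSolvable_of_ext (C.map (QuotientGroup.mk' K)) (Or.inl ?_)
    (ClassIndex.isPSolvable_of_isSolvable _ ?_)
  · obtain ⟨S, R, hR, hc⟩ := hcomplC
    obtain ⟨i, hi⟩ := S.2.exists_card_eq
    haveI := hR
    have hRle : R ≤ Cfsg.pPrimeCore p C := Cores.le_pPrimeCore hR (by
      rw [← hc.index_eq_card]
      exact (hp.out.coprime_iff_not_dvd.2 S.not_dvd_index).symm)
    have h1 : (Cfsg.pPrimeCore p C).index ∣ p ^ i := (index_dvd_of_le hRle).trans (dvd_of_eq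
      (hc.symm.index_eq_card.trans hi))
    obtain ⟨k, -, hk⟩ := (Nat.dvd_prime_pow hp.out).1 h1
    refine ⟨k, ?_⟩
    rw [← hk, ← relIndex_ker, QuotientGroup.ker_mk', hK, relIndex, subgroupOf,
      comap_map_eq_self_of_injective C.subtype_injective]
  · refine Group.isSolvable_of_comm fun a b => ?_
    obtain ⟨a', rfl⟩ := QuotientGroup.mk'_surjective _ a
    obtain ⟨b', rfl⟩ := QuotientGroup.mk'_surjective _ b
    obtain ⟨g, rfl⟩ := QuotientGroup.mk'_surjective _ a'
    obtain ⟨h, rfl⟩ := QuotientGroup.mk'_surjective _ b'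
    simp only [QuotientGroup.mk'_apply, ← QuotientGroup.mk_mul]
    rw [QuotientGroup.eq]
    refine ⟨(g * h)⁻¹ * (h * g), ?_, rfl⟩
    rw [SetLike.mem_coe, hC, mem_centralizer_singleton_iff]
    have e := hcomm g h
    calc (g * h)⁻¹ * (h * g) * w
        = (g * h)⁻¹ * ((h * g) * w * (h * g)⁻¹) * (h * g) := by group
      _ = (g * h)⁻¹ * ((g * h) * w * (g * h)⁻¹) * (h * g) := by rw [e]
      _ = w * ((g * h)⁻¹ * (h * g)) := by group

theorem card_pair (hpairs : Pairs p G) (P : Sylow p G) (hP : IsCyclic P) {E m a : ℕ}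
    (hcard : Nat.card G = p ^ (a + 1) * m) (hEq : E ≡ 1 [MOD p ^ (a + 1)]) (hEm : E ≡ 0 [MOD m]) {b c : G}
    (hb : orderOf b = p) (hc : orderOf c = p) :
    ((Jset p).filter fun j => orderOf ((b * c ^ j) ^ E) = p).card = p - 2 := by
  set X := closure ({b, c} : Set G) with hX
  have hbX : b ∈ X := subset_closure (by simp)
  have hcX : c ∈ X := subset_closure (by simp)
  obtain ⟨Q⟩ := (inferInstance : Nonempty (Sylow p X))
  obtain ⟨K, hK, hKd, hKi⟩ := exists_index_eq_of_pair (G := X) (a := ⟨b, hbX⟩) (b := ⟨c, hcX⟩)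
    (Solvable.isPiSeparable_of_isPSolvable (hpairs b c hb hc)) Q (isCyclic_sylow_subgroup P hP X Q)
    (by rw [Subgroup.orderOf_mk, hb]) (by rw [Subgroup.orderOf_mk, hc])
    (by
      apply map_injective X.subtype_injective
      rw [MonoidHom.map_closure, Set.image_insert_eq, Set.image_singleton, ← MonoidHom.range_eq_map,
        range_subtype]
      rfl)
  haveI := hK
  set φ := QuotientGroup.mk' K with hφ
  have hcardQ : Nat.card (X ⧸ K) = p := by rw [← index_eq_card, hKi]
  have hnp : ∀ (z : G) (hz : z ∈ X), orderOf z = p → φ ⟨z, hz⟩ ≠ 1 := by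
    intro z hz ho h1
    rw [hφ, QuotientGroup.mk'_apply, QuotientGroup.eq_one_iff] at h1
    exact hKd (ho ▸ Subgroup.orderOf_mk z hz ▸ Subgroup.orderOf_dvd_natCard K h1)
  have hpp : ∀ z : X ⧸ K, z ^ p = 1 := fun z => by rw [← hcardQ, pow_card_eq_one']
  have hord : ∀ z : X, orderOf ((z : G) ^ E) = p ↔ φ z ≠ 1 := by
    intro z
    have hdq : orderOf ((z : G) ^ E) ∣ p ^ (a + 1) := by
      refine orderOf_dvd_of_pow_eq_one ?_
      obtain ⟨t, ht⟩ := Nat.modEq_zero_iff_dvd.1 hEm
      rw [← pow_mul, ht, show m * t * p ^ (a + 1) = p ^ (a + 1) * m * t by ring, pow_mul, ← hcard,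
        pow_card_eq_one', one_pow]
    constructor
    · intro ho h1
      rw [hφ, QuotientGroup.mk'_apply, QuotientGroup.eq_one_iff] at h1
      have h2 : orderOf ((z : G) ^ E) ∣ Nat.card K := by
        rw [← coe_pow, Subgroup.orderOf_coe]
        exact Subgroup.orderOf_dvd_natCard K (pow_mem h1 E)
      exact hKd (ho ▸ h2)
    · intro h1
      have hne : ((z : G) ^ E) ≠ 1 := fun h2 => h1 (by
        have hz : z ^ E = 1 := Subtype.ext (by rw [coe_pow, h2, coe_one])
        calc φ z = φ z ^ 1 := (pow_one _).symm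
          _ = φ z ^ E := (pow_eq_pow_iff_modEq.2 ((hEq.of_dvd (dvd_pow_self p (Nat.succ_ne_zero a))).of_dvd
              (orderOf_dvd_of_pow_eq_one (hpp _)))).symm
          _ = 1 := by rw [← map_pow, hz, map_one])
      have h2 : orderOf ((z : G) ^ E) ∣ p := by
        have h3 : orderOf ((z : G) ^ E) ∣ p * Nat.card K := by
          rw [← hKi, index_mul_card, ← coe_pow, Subgroup.orderOf_coe]
          exact orderOf_dvd_natCard _
        obtain ⟨k, -, hk⟩ := (Nat.dvd_prime_pow hp.out).1 hdq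
        rw [hk] at h3 ⊢
        exact ((hp.out.coprime_iff_not_dvd.2 hKd).pow_left k).dvd_of_dvd_mul_right h3
      exact (hp.out.eq_one_or_self_of_dvd _ h2).resolve_left fun h3 => hne (orderOf_eq_one_iff.1 h3)
  have hcq : orderOf (φ ⟨c, hcX⟩) = p :=
    (hp.out.eq_one_or_self_of_dvd _ (orderOf_dvd_of_pow_eq_one (hpp _))).resolve_left
      fun h => hnp c hcX hc (orderOf_eq_one_iff.1 h)
  have hgen : zpowers (φ ⟨c, hcX⟩) = ⊤ := eq_top_of_card_eq _ (by rw [Nat.card_zpowers, hcq, hcardQ])
  obtain ⟨k, hk⟩ := (mem_zpowers_iff_mem_range_orderOf (x := φ ⟨c, hcX⟩) (y := (φ ⟨b, hbX⟩)⁻¹)).1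
    (hgen ▸ mem_top _) |> Finset.mem_image.1
  rw [hcq, Finset.mem_range] at hk
  have hk0 : k ≠ 0 := fun h => hnp b hbX hb (inv_eq_one.1 (by rw [← hk.2, h, pow_zero]))
  have hset : ((Jset p).filter fun j => orderOf ((b * c ^ j) ^ E) = p) = (Jset p).erase k := by
    ext j
    simp only [Finset.mem_filter, Finset.mem_erase, and_comm (a := j ≠ k)]
    refine and_congr_right fun hj => ?_
    rw [show b * c ^ j = ((⟨b, hbX⟩ * ⟨c, hcX⟩ ^ j : X) : G) by simp, hord, map_mul, map_pow]
    rw [ne_eq, ne_eq, mul_eq_one_iff_eq_inv, eq_comm, inv_eq_iff_eq_inv, eq_comm]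
    refine not_congr ⟨fun h => ?_, fun h => ?_⟩
    · refine pow_injOn_Iio_orderOf (x := φ ⟨c, hcX⟩) ?_ ?_ ?_
      · rw [Set.mem_Iio, hcq]
        exact Finset.mem_range.1 (Finset.mem_erase.1 hj).2
      · rw [Set.mem_Iio, hcq]
        exact hk.1
      · show φ ⟨c, hcX⟩ ^ j = φ ⟨c, hcX⟩ ^ k
        rw [hk.2, h]
    · rw [h, hk.2]
  rw [hset, Finset.card_erase_of_mem (show k ∈ Jset p from Finset.mem_erase.2 ⟨hk0, Finset.mem_range.2 hk.1⟩), Setup.card_Jset]
  omega

/-- The simple case. -/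
theorem isPSolvable_simple [IsSimpleGroup G] (P : Sylow p G) (hP : IsCyclic P) (hpairs : Pairs p G) :
    Cfsg.IsPSolvable p G := by
  by_cases hc : HasNormalPComplement p G
  · exact isPSolvable_of_complement hc
  exfalso
  have hp2 : p ≠ 2 := fun h => hc (hasNormalPComplement_two P hP h)
  have hnc : ¬ ∀ a b : G, a * b = b * a := fun h =>
    hc (Transfer.hasNormalPComplement_of_normalizer_le_centralizer P fun g _ =>
      mem_centralizer_iff.2 fun z _ => h z g)
  obtain ⟨u', hu'⟩ := hP.exists_generator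
  obtain ⟨k, hk⟩ := P.2.exists_card_eq
  have hk0 : k ≠ 0 := fun h0 => hc (Transfer.hasNormalPComplement_of_not_dvd fun hd => by
    have h := (Sylow.ne_bot_of_dvd_card P hd)
    rw [h0, pow_zero] at hk
    exact h (card_eq_one.1 hk))
  obtain ⟨a, rfl⟩ := Nat.exists_eq_succ_of_ne_zero hk0
  set u : G := (u' : G) with hudef
  have hu : orderOf u = p ^ (a + 1) := by
    rw [hudef, Subgroup.orderOf_coe, orderOf_eq_card_of_forall_mem_zpowers hu']
    exact hk
  set m := (P : Subgroup G).index with hm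
  have hcard : Nat.card G = p ^ (a + 1) * m := by
    rw [← Nat.succ_eq_add_one a, ← hk, hm, card_mul_index]
  have hcop : (p ^ (a + 1)).Coprime m := (hp.out.coprime_iff_not_dvd.2 P.not_dvd_index).pow_left _
  obtain ⟨E, hEq, hEm⟩ : ∃ E, E ≡ 1 [MOD p ^ (a + 1)] ∧ E ≡ 0 [MOD m] :=
    ⟨_, (Nat.chineseRemainder hcop 1 0).2⟩
  set x : G := u ^ (p ^ a) with hxdef
  have hxP : x ∈ (P : Subgroup G) := pow_mem u'.2 _
  have hx : orderOf x = p := by
    rw [hxdef, orderOf_pow_of_dvd (pow_ne_zero _ hp.out.ne_zero) (by rw [hu]; exact pow_dvd_pow p (Nat.le_succ _)),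
      hu, Nat.pow_div (Nat.le_succ _) hp.out.pos]
    simp
  have hx1 : x ≠ 1 := fun h => hp.out.ne_one (by rw [← hx, h, orderOf_one])
  set C := centralizer ({x} : Set G) with hC
  have hPC : (P : Subgroup G) ≤ C := fun z hz => by
    haveI := hP
    exact mem_centralizer_singleton_iff.2
      (congrArg Subtype.val (IsMulCommutative.is_comm.comm (⟨z, hz⟩ : (P : Subgroup G)) ⟨x, hxP⟩))
  have hcompl : HasNormalPComplement p C := by
    refine hasNormalPComplement_of_fix (x := (⟨x, hPC hxP⟩ : C)) (P.subtype hPC)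
      (isCyclic_sylow_subgroup P hP C _) ?_ ?_ fun c _ => ?_
    · exact mem_subgroupOf.2 hxP
    · exact fun h => hx1 (congrArg Subtype.val h)
    · exact Subtype.ext (mul_inv_eq_iff_eq_mul.2 (mem_centralizer_singleton_iff.1 c.2))
  haveI := Fintype.ofFinite G
  let d : Setup p G :=
    { a := a, m := m, x := x, u := u, E := E, card_G := hcard, not_dvd := P.not_dvd_index, orderOf_u := hu,
      x_eq := rfl, E_q := hEq, E_m := hEm,
      conj_mem := fun b hb => exists_conj_mem_zpowers P hP hxP hx hb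
      compl := hcompl, pair := fun b c hb hc => card_pair hpairs P hP hcard hEq hEm hb hc }
  refine d.contradiction hp2 hnc ?_
  by_contra hlt
  have hle : d.nn ≤ d.cc := by
    rw [d.nn_eq]
    exact Nat.le_trans (Nat.mul_le_mul_right _ (show d.ee ≤ 1 by omega)) (one_mul _).le
  have heq : (Finset.univ.filter fun g : G => g * x * g⁻¹ = x) =
      Finset.univ.filter fun g : G => g * x * g⁻¹ ∈ zpowers x :=
    Finset.eq_of_subset_of_card_le (fun g hg => by
      simp only [Finset.mem_filter, Finset.mem_univ, true_and] at hg ⊢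
      rw [hg]
      exact mem_zpowers x) hle
  refine hc (hasNormalPComplement_of_fix P hP hxP hx1 fun g hg => ?_)
  have hmem : g * x * g⁻¹ ∈ zpowers x := mem_zpowers_of_cyclic hP hxP ((mem_normalizer_iff.1 hg _).1 hxP)
    (by rw [hx, conj_pow, ← hx, pow_orderOf_eq_one, mul_one, mul_inv_cancel])
  exact (Finset.mem_filter.1 (heq.symm ▸ Finset.mem_filter.2 ⟨Finset.mem_univ g, hmem⟩ :
    g ∈ Finset.univ.filter fun g : G => g * x * g⁻¹ = x)).2

/-- Pairs of elements of order `p` detect `p`-solvability when the Sylow `p`-subgroups are cyclic. -/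
theorem isPSolvable_of_pairs (P : Sylow p G) (hP : IsCyclic P) (hpairs : Pairs p G) :
    Cfsg.IsPSolvable p G := by
  obtain ⟨n, hn⟩ : ∃ n, n = Nat.card G := ⟨_, rfl⟩
  induction n using Nat.strong_induction_on generalizing G with
  | _ n IH =>
  subst hn
  rcases subsingleton_or_nontrivial G with hs | hs
  · exact ClassIndex.isPSolvable_of_subsingleton G p
  by_cases hsimple : IsSimpleGroup G
  · exact isPSolvable_simple P hP hpairs
  obtain ⟨N, hN, hNb, hNt⟩ : ∃ N : Subgroup G, N.Normal ∧ N ≠ ⊥ ∧ N ≠ ⊤ := by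
    by_contra h
    refine hsimple { eq_bot_or_eq_top_of_normal := fun H hH => ?_ }
    by_contra h'
    rw [not_or] at h'
    exact h ⟨H, hH, h'.1, h'.2⟩
  haveI := hN
  obtain ⟨Q⟩ := (inferInstance : Nonempty (Sylow p N))
  have hNlt : Nat.card N < Nat.card G :=
    lt_of_le_of_ne (card_le_card_group N) fun h => hNt (eq_top_of_card_eq N h)
  have hNs := IH _ hNlt Q (isCyclic_sylow_subgroup P hP N Q) (pairs_subgroup hpairs N) rfl
  haveI : Nontrivial N := (nontrivial_iff_ne_bot N).2 hNb
  obtain ⟨M, hM, hMne, hnum⟩ := (Solvable.isPiSeparable_of_isPSolvable hNs).exists_normal_ne_bot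
  rcases hnum with h1 | h1
  · have hMp : IsPGroup p M := IsPGroup.of_card (Nat.eq_prime_pow_of_unique_prime_dvd Nat.card_pos.ne'
      fun {q} hq hd => h1 q hq hd)
    haveI := Cores.map_subtype_normal_of_characteristic N (Cfsg.pCore p N)
    refine isPSolvable_of_normal_pGroup P hP (N := (Cfsg.pCore p N).map N.subtype)
      ((Cores.isPGroup_pCore p N).map _) fun hb => hMne (le_bot_iff.1 ?_)
    rw [map_eq_bot_iff_of_injective _ N.subtype_injective] at hb
    exact hb ▸ Cores.le_pCore hM hMp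
  · haveI := Cores.map_subtype_normal_of_characteristic N (Cfsg.pPrimeCore p N)
    set L := (Cfsg.pPrimeCore p N).map N.subtype with hL
    have hLd : ¬ p ∣ Nat.card L := by
      rw [hL, card_map_of_injective N.subtype_injective]
      exact Cores.not_dvd_card_pPrimeCore
    have hLne : L ≠ ⊥ := fun hb => hMne (le_bot_iff.1 (by
      rw [hL, map_eq_bot_iff_of_injective _ N.subtype_injective] at hb
      exact hb ▸ Cores.le_pPrimeCore hM
        (hp.out.coprime_iff_not_dvd.2 fun hd => h1 p hp.out hd rfl).symm))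
    obtain ⟨R⟩ := (inferInstance : Nonempty (Sylow p (G ⧸ L)))
    exact ClassIndex.isPSolvable_of_ext L (Or.inr (hp.out.coprime_iff_not_dvd.2 hLd).symm)
      (IH _ (card_quotient_lt hLne) R (isCyclic_sylow_quotient P hP L R) (pairs_quotient hpairs L hLd) rfl)

end Cfsg.Agent.PairsCyclic
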