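import Cfsg.Agent.Lib.PairsCyclic.Basic

/-!
# The counting setup for cyclic Sylow `p`-subgroups (owner: helper62)

`Setup p G`: an element `u` generating a Sylow subgroup of order `q = p ^ (a+1)`, its power `x` of order `p`,
the exponent `E` extracting `p`-parts and the hypothesis on pairs.  We count fibres of the conjugation maps.
-/

set_option autoImplicit false

open scoped Classical

namespace Cfsg.Agent.PairsCyclic

open Subgroup

universe u

/-- The exponents `1, …, p - 1`. -/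
def Jset (p : ℕ) : Finset ℕ := (Finset.range p).erase 0

/-- Data of the counting argument. -/
structure Setup (p : ℕ) (G : Type u) [Group G] where
  /-- `q = p ^ (a + 1)` is the order of a Sylow subgroup -/
  a : ℕ
  /-- the `p'`-part of the order -/
  m : ℕ
  /-- an element of order `p` -/
  x : G
  /-- a generator of a Sylow subgroup -/
  u : G
  /-- exponent extracting `p`-parts -/
  E : ℕ
  card_G : Nat.card G = p ^ (a + 1) * m
  not_dvd : ¬ p ∣ m
  orderOf_u : orderOf u = p ^ (a + 1)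
  x_eq : x = u ^ (p ^ a)
  E_q : E ≡ 1 [MOD p ^ (a + 1)]
  E_m : E ≡ 0 [MOD m]
  conj_mem : ∀ b : G, orderOf b = p → ∃ g : G, g⁻¹ * b * g ∈ zpowers x
  compl : HasNormalPComplement p (centralizer ({x} : Set G))
  pair : ∀ b c : G, orderOf b = p → orderOf c = p →
    ((Jset p).filter fun j => orderOf ((b * c ^ j) ^ E) = p).card = p - 2

variable {G : Type u} [Group G] [Fintype G] {p : ℕ} [hp : Fact p.Prime] (d : Setup p G)

namespace Setup

/-- elements of order `p` -/
noncomputable def Ep (_d : Setup p G) : Finset G := Finset.univ.filter fun b : G => orderOf b = p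

/-- elements whose `p`-part has order `p` -/
noncomputable def Zs : Finset G := Finset.univ.filter fun z : G => orderOf (z ^ d.E) = p

/-- `p`-regular elements of the centralizer of `x` -/
noncomputable def Ks : Finset G := Finset.univ.filter fun y : G => Commute y d.x ∧ y ^ d.m = 1

/-- order of the centralizer of `x` -/
noncomputable def cc : ℕ := (Finset.univ.filter fun g : G => g * d.x * g⁻¹ = d.x).card

/-- order of the normalizer of `⟨x⟩` -/
noncomputable def nn : ℕ := (Finset.univ.filter fun g : G => g * d.x * g⁻¹ ∈ zpowers d.x).card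

/-- the conjugates of `x` among its powers -/
noncomputable def ee : ℕ := ((Jset p).filter fun j => IsConj d.x (d.x ^ j)).card

omit [Fintype G] in
theorem orderOf_x : orderOf d.x = p := by
  rw [d.x_eq, orderOf_pow_of_dvd (pow_ne_zero _ hp.out.ne_zero) (by rw [d.orderOf_u]; exact pow_dvd_pow p (Nat.le_succ _)),
    d.orderOf_u, Nat.pow_div (Nat.le_succ _) hp.out.pos]
  simp

omit [Fintype G] in
theorem pow_p : d.x ^ p = 1 := by rw [← pow_orderOf_eq_one d.x, d.orderOf_x]

theorem mem_Ep {b : G} : b ∈ d.Ep ↔ orderOf b = p := by simp [Ep]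

theorem mem_Zs {z : G} : z ∈ d.Zs ↔ orderOf (z ^ d.E) = p := by simp [Zs]

theorem mem_Ks {y : G} : y ∈ d.Ks ↔ Commute y d.x ∧ y ^ d.m = 1 := by simp [Ks]

omit [Fintype G] hp in
theorem m_pos [Finite G] : 0 < d.m := by
  refine Nat.pos_of_ne_zero fun h => ?_
  have := d.card_G
  rw [h, mul_zero] at this
  exact Nat.card_pos.ne' this

omit [Fintype G] in
theorem coprime_q_m : (p ^ (d.a + 1)).Coprime d.m :=
  (hp.out.coprime_iff_not_dvd.2 d.not_dvd).pow_left _

omit [Fintype G] hp in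
theorem pow_E_reg {y : G} (hy : y ^ d.m = 1) : y ^ d.E = 1 := by
  obtain ⟨t, ht⟩ := Nat.modEq_zero_iff_dvd.1 d.E_m
  rw [ht, pow_mul, hy, one_pow]

omit [Fintype G] hp in
theorem pow_E_pElt {w : G} (hw : w ^ (p ^ (d.a + 1)) = 1) : w ^ d.E = w := by
  conv_rhs => rw [← pow_one w]
  exact pow_eq_pow_iff_modEq.2 (d.E_q.of_dvd (orderOf_dvd_of_pow_eq_one hw))

omit [Fintype G] hp in
theorem pow_E_mul {w y : G} (hw : w ^ (p ^ (d.a + 1)) = 1) (hy : y ^ d.m = 1) (h : Commute w y) :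
    (w * y) ^ d.E = w := by
  rw [h.mul_pow, d.pow_E_pElt hw, d.pow_E_reg hy, mul_one]

omit [Fintype G] in
theorem pow_x_q (j : ℕ) : (d.x ^ j) ^ (p ^ (d.a + 1)) = 1 := by
  rw [← pow_mul, mul_comm, pow_mul, pow_succ', pow_mul, d.pow_p, one_pow, one_pow]

omit [Fintype G] hp in
theorem pow_E_q (z : G) : (z ^ d.E) ^ (p ^ (d.a + 1)) = 1 := by
  obtain ⟨t, ht⟩ := Nat.modEq_zero_iff_dvd.1 d.E_m
  rw [← pow_mul, ht, show d.m * t * p ^ (d.a + 1) = p ^ (d.a + 1) * d.m * t by ring, pow_mul, ← d.card_G,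
    pow_card_eq_one', one_pow]

omit [Fintype G] hp in
theorem regPart_pow (z : G) : ((z ^ d.E)⁻¹ * z) ^ d.m = 1 := by
  rw [(((Commute.refl z).pow_left d.E).inv_left).mul_pow, inv_pow, ← pow_mul, inv_mul_eq_one]
  refine pow_eq_pow_iff_modEq.2 ?_
  have h := d.E_q.mul_right' d.m
  rw [one_mul] at h
  exact h.of_dvd (by rw [← d.card_G]; exact orderOf_dvd_natCard z)

omit [Fintype G] in
theorem exists_pow_eq {w : G} (hw : w ∈ zpowers d.x) (ho : orderOf w = p) : ∃ j ∈ Jset p, d.x ^ j = w := by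
  have hf : IsOfFinOrder d.x := orderOf_pos_iff.1 (by rw [d.orderOf_x]; exact hp.out.pos)
  obtain ⟨k, rfl⟩ := hf.mem_powers_iff_mem_zpowers.2 hw
  refine ⟨k % p, Finset.mem_erase.2 ⟨fun h0 => ?_, Finset.mem_range.2 (Nat.mod_lt _ hp.out.pos)⟩, ?_⟩
  · have h1 : d.x ^ k = 1 := by rw [← pow_mod_orderOf, d.orderOf_x, h0, pow_zero]
    simp only [h1, orderOf_one] at ho
    exact hp.out.ne_one ho.symm
  · show d.x ^ (k % p) = d.x ^ k
    rw [← pow_mod_orderOf d.x k, d.orderOf_x]

omit [Fintype G] in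
theorem orderOf_pow_J {j : ℕ} (hj : j ∈ Jset p) : orderOf (d.x ^ j) = p := by
  refine orderOf_eq_prime (by rw [← pow_mul, mul_comm, pow_mul, d.pow_p, one_pow]) fun h => ?_
  have hd := orderOf_dvd_of_pow_eq_one h
  rw [d.orderOf_x] at hd
  exact (Finset.mem_erase.1 hj).1 (Nat.eq_zero_of_dvd_of_lt hd (Finset.mem_range.1 (Finset.mem_erase.1 hj).2))

omit [Fintype G] in
theorem pow_J_inj {i j : ℕ} (hi : i ∈ Jset p) (hj : j ∈ Jset p) (h : d.x ^ i = d.x ^ j) : i = j := by
  refine pow_injOn_Iio_orderOf ?_ ?_ h <;> rw [Set.mem_Iio, d.orderOf_x]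
  · exact Finset.mem_range.1 (Finset.mem_erase.1 hi).2
  · exact Finset.mem_range.1 (Finset.mem_erase.1 hj).2

omit [Fintype G] in
theorem mem_zpowers_pow {j : ℕ} (hj : j ∈ Jset p) : d.x ∈ zpowers (d.x ^ j) := by
  have hc : j.Coprime (orderOf d.x) := by
    rw [d.orderOf_x]
    exact (Nat.coprime_of_lt_prime (Finset.mem_erase.1 hj).1
      (Finset.mem_range.1 (Finset.mem_erase.1 hj).2) hp.out).symm
  obtain ⟨i, hi⟩ := exists_pow_eq_self_of_coprime hc
  exact ⟨i, by simpa using hi⟩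

omit [Fintype G] in
theorem commute_of_pow {j : ℕ} (hj : j ∈ Jset p) {g : G} (h : Commute g (d.x ^ j)) : Commute g d.x := by
  obtain ⟨i, hi⟩ := d.mem_zpowers_pow hj
  rw [← hi]
  exact h.zpow_right i

theorem card_Jset : (Jset p).card = p - 1 := by
  rw [Jset, Finset.card_erase_of_mem (Finset.mem_range.2 hp.out.pos), Finset.card_range]

/-- the elements conjugating `w` into `⟨x⟩` form a coset of the normalizer of `⟨x⟩` -/
theorem card_good {w : G} (hw : orderOf w = p) :
    (Finset.univ.filter fun g : G => g⁻¹ * w * g ∈ zpowers d.x).card = d.nn := by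
  obtain ⟨g₀, hg₀⟩ := d.conj_mem w hw
  obtain ⟨j₀, hj₀, he⟩ := d.exists_pow_eq hg₀ (by
    rw [← hw]
    simpa using (MulAut.conj g₀⁻¹).orderOf_eq w)
  obtain ⟨i, hi⟩ := d.mem_zpowers_pow hj₀
  refine Finset.card_bij' (fun g _ => g⁻¹ * g₀) (fun h _ => g₀ * h⁻¹) ?_ ?_ ?_ ?_
  · intro g hg
    simp only [Finset.mem_filter, Finset.mem_univ, true_and] at hg ⊢
    have : g⁻¹ * g₀ * d.x * (g⁻¹ * g₀)⁻¹ = (g⁻¹ * w * g) ^ i := by
      rw [← hi]
      show _ * (d.x ^ j₀) ^ i * _ = _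
      rw [he, ← conj_zpow]
      congr 1
      group
    rw [this]
    exact zpow_mem hg i
  · intro h hh
    simp only [Finset.mem_filter, Finset.mem_univ, true_and] at hh ⊢
    have : (g₀ * h⁻¹)⁻¹ * w * (g₀ * h⁻¹) = (h * d.x * h⁻¹) ^ j₀ := by
      rw [conj_pow, he]
      group
    rw [this]
    exact pow_mem hh j₀
  · intro g _
    group
  · intro h _
    group

/-- fibre of `(g, j) ↦ g x^j g⁻¹` -/
theorem card_fibre_Ep {w : G} (hw : orderOf w = p) :
    (((Finset.univ : Finset G) ×ˢ Jset p).filter fun c => c.1 * d.x ^ c.2 * c.1⁻¹ = w).card = d.nn := by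
  rw [← d.card_good hw]
  refine Finset.card_bij (fun c _ => c.1) ?_ ?_ ?_
  · rintro ⟨g, j⟩ hc
    simp only [Finset.mem_filter, Finset.mem_product, Finset.mem_univ, true_and] at hc ⊢
    exact ⟨(j : ℤ), by
      show d.x ^ (j : ℤ) = _
      rw [zpow_natCast, ← hc.2]
      group⟩
  · rintro ⟨g, j⟩ hc ⟨g', j'⟩ hc' h
    simp only [Finset.mem_filter, Finset.mem_product, Finset.mem_univ, true_and] at hc hc'
    obtain rfl : g = g' := h
    rw [d.pow_J_inj hc.1 hc'.1 (mul_left_cancel (mul_right_cancel (hc.2.trans hc'.2.symm)))]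
  · intro g hg
    simp only [Finset.mem_filter, Finset.mem_univ, true_and] at hg
    obtain ⟨j, hj, he⟩ := d.exists_pow_eq hg (by
      rw [← hw]
      simpa using (MulAut.conj g⁻¹).orderOf_eq w)
    refine ⟨(g, j), ?_, rfl⟩
    simp only [Finset.mem_filter, Finset.mem_product, Finset.mem_univ, true_and]
    exact ⟨hj, by rw [he]; group⟩

/-- fibre of `(g, j, y) ↦ g (x^j y) g⁻¹` -/
theorem card_fibre_Zs {z : G} (hz : z ∈ d.Zs) :
    (((Finset.univ : Finset G) ×ˢ (Jset p ×ˢ d.Ks)).filter fun c =>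
      c.1 * (d.x ^ c.2.1 * c.2.2) * c.1⁻¹ = z).card = d.nn := by
  rw [← d.card_good (d.mem_Zs.1 hz)]
  refine Finset.card_bij (fun c _ => c.1) ?_ ?_ ?_
  · rintro ⟨g, j, y⟩ hc
    simp only [Finset.mem_filter, Finset.mem_product, Finset.mem_univ, true_and, mem_Ks] at hc ⊢
    obtain ⟨⟨hj, hyc, hym⟩, he⟩ := hc
    refine ⟨(j : ℤ), ?_⟩
    show d.x ^ (j : ℤ) = _
    rw [zpow_natCast, ← he, conj_pow, d.pow_E_mul (d.pow_x_q j) hym (hyc.symm.pow_left j)]
    group
  · rintro ⟨g, j, y⟩ hc ⟨g', j', y'⟩ hc' h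
    simp only [Finset.mem_filter, Finset.mem_product, Finset.mem_univ, true_and, mem_Ks] at hc hc'
    obtain rfl : g = g' := h
    have h1 : d.x ^ j * y = d.x ^ j' * y' := mul_left_cancel (mul_right_cancel (hc.2.trans hc'.2.symm))
    have h2 := congrArg (· ^ d.E) h1
    simp only [d.pow_E_mul (d.pow_x_q j) hc.1.2.2 (hc.1.2.1.symm.pow_left j),
      d.pow_E_mul (d.pow_x_q j') hc'.1.2.2 (hc'.1.2.1.symm.pow_left j')] at h2
    obtain rfl := d.pow_J_inj hc.1.1 hc'.1.1 h2
    rw [mul_left_cancel h1]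
  · intro g hg
    simp only [Finset.mem_filter, Finset.mem_univ, true_and] at hg
    obtain ⟨j, hj, he⟩ := d.exists_pow_eq hg (Eq.trans
      (by simpa using (MulAut.conj g⁻¹).orderOf_eq (z ^ d.E)) (d.mem_Zs.1 hz))
    have hcp : (g⁻¹ * z * g) ^ d.E = d.x ^ j := by
      rw [he]
      simpa using conj_pow (a := g⁻¹) (b := z) (i := d.E)
    have hy := d.regPart_pow (g⁻¹ * z * g)
    have hcm : Commute ((g⁻¹ * z * g) ^ d.E)⁻¹ (g⁻¹ * z * g) := ((Commute.refl _).pow_left _).inv_left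
    rw [hcp] at hy hcm
    refine ⟨(g, j, (d.x ^ j)⁻¹ * (g⁻¹ * z * g)), ?_, rfl⟩
    simp only [Finset.mem_filter, Finset.mem_product, Finset.mem_univ, true_and, mem_Ks]
    refine ⟨⟨hj, d.commute_of_pow hj ?_, hy⟩, by group⟩
    exact ((Commute.refl _).inv_left).mul_left (Commute.inv_left_iff.1 hcm).symm

/-- conjugates of `x ^ i` inside `⟨x⟩` -/
theorem sum_card_conj {i : ℕ} (hi : i ∈ Jset p) :
    ∑ j ∈ Jset p, (Finset.univ.filter fun g : G => g * d.x ^ i * g⁻¹ = d.x ^ j).card = d.nn := by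
  obtain ⟨t, ht⟩ := d.mem_zpowers_pow hi
  have hset : (Finset.univ.filter fun g : G => g * d.x * g⁻¹ ∈ zpowers d.x) =
      Finset.univ.filter fun g : G => g * d.x ^ i * g⁻¹ ∈ (Jset p).image (d.x ^ ·) := by
    ext g
    simp only [Finset.mem_filter, Finset.mem_univ, true_and, Finset.mem_image]
    constructor
    · intro hg
      refine d.exists_pow_eq ?_ ?_
      · rw [← conj_pow]
        exact pow_mem hg i
      · exact Eq.trans (by simpa using (MulAut.conj g).orderOf_eq (d.x ^ i)) (d.orderOf_pow_J hi)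
    · rintro ⟨j, -, hj⟩
      rw [← ht]
      show g * (d.x ^ i) ^ t * g⁻¹ ∈ _
      rw [← conj_zpow, ← hj, ht]
      exact zpow_mem (pow_mem (mem_zpowers _) j) t
  have hfib := Finset.card_eq_sum_card_fiberwise
    (s := Finset.univ.filter fun g : G => g * d.x ^ i * g⁻¹ ∈ (Jset p).image (d.x ^ ·))
    (f := fun g : G => g * d.x ^ i * g⁻¹) (t := (Jset p).image (d.x ^ ·))
    (fun g hg => (Finset.mem_filter.1 hg).2)
  refine Eq.trans ?_ ((congrArg Finset.card hset).trans hfib).symm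
  rw [Finset.sum_image fun a ha b hb h => d.pow_J_inj ha hb h]
  refine Finset.sum_congr rfl fun j hj => congrArg Finset.card ?_
  ext g
  simp only [Finset.mem_filter, Finset.mem_univ, true_and, Finset.mem_image]
  exact ⟨fun h => ⟨⟨j, hj, h.symm⟩, h⟩, fun h => h.2⟩

theorem card_conj_pow {j : ℕ} :
    (Finset.univ.filter fun g : G => g * d.x * g⁻¹ = d.x ^ j).card =
      if IsConj d.x (d.x ^ j) then d.cc else 0 := by
  split_ifs with h
  · obtain ⟨c, hc⟩ := isConj_iff.1 h
    refine Finset.card_bij' (fun g _ => c⁻¹ * g) (fun g _ => c * g) ?_ ?_ ?_ ?_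
    · intro g hg
      simp only [cc, Finset.mem_filter, Finset.mem_univ, true_and] at hg ⊢
      rw [show c⁻¹ * g * d.x * (c⁻¹ * g)⁻¹ = c⁻¹ * (g * d.x * g⁻¹) * c by group, hg, ← hc]
      group
    · intro g hg
      simp only [cc, Finset.mem_filter, Finset.mem_univ, true_and] at hg ⊢
      rw [show c * g * d.x * (c * g)⁻¹ = c * (g * d.x * g⁻¹) * c⁻¹ by group, hg, hc]
    · intro g _
      group
    · intro g _
      group
  · rw [Finset.card_eq_zero, Finset.filter_eq_empty_iff]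
    exact fun g _ hg => h (isConj_iff.2 ⟨g, hg⟩)

theorem nn_eq : d.nn = d.ee * d.cc := by
  have h1 : 1 ∈ Jset p := Finset.mem_erase.2 ⟨one_ne_zero, Finset.mem_range.2 hp.out.one_lt⟩
  rw [← d.sum_card_conj h1, ee, ← smul_eq_mul, ← Finset.sum_const, Finset.sum_filter]
  refine Finset.sum_congr rfl fun j _ => ?_
  rw [pow_one, card_conj_pow]

theorem ee_le : d.ee ≤ p - 1 := (Finset.card_filter_le _ _).trans_eq card_Jset

theorem cc_eq_card : d.cc = Nat.card (centralizer ({d.x} : Set G)) := by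
  rw [Nat.card_eq_fintype_card, cc]
  refine Eq.trans ?_ (Fintype.card_subtype _).symm
  congr 1
  ext g
  simp [mem_centralizer_singleton_iff, mul_inv_eq_iff_eq_mul]

theorem regular_iff (y : G) : ¬ p ∣ orderOf y ↔ y ^ d.m = 1 := by
  refine ⟨fun h => orderOf_dvd_iff_pow_eq_one.1 ?_,
    fun h hd => d.not_dvd (hd.trans (orderOf_dvd_of_pow_eq_one h))⟩
  exact ((hp.out.coprime_iff_not_dvd.2 h).symm.pow_right (d.a + 1)).dvd_of_dvd_mul_left
    (d.card_G ▸ orderOf_dvd_natCard y)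

theorem card_reg (H : Subgroup G) (hH : ∀ g, g ∈ H ↔ Commute d.x g) [Fintype H] :
    (Finset.univ.filter fun s : H => ¬ p ∣ orderOf s).card = d.Ks.card := by
  refine Finset.card_bij (fun s _ => (s : G)) ?_ (fun a _ b _ h => Subtype.ext h) ?_
  · intro s hs
    simp only [Finset.mem_filter, Finset.mem_univ, true_and] at hs
    rw [← Subgroup.orderOf_coe] at hs
    exact d.mem_Ks.2 ⟨((hH _).1 s.2).symm, (d.regular_iff _).1 hs⟩
  · intro y hy
    obtain ⟨hc, hm⟩ := d.mem_Ks.1 hy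
    exact ⟨⟨y, (hH _).2 hc.symm⟩, Finset.mem_filter.2 ⟨Finset.mem_univ _, by
      rw [← Subgroup.orderOf_coe]; exact (d.regular_iff _).2 hm⟩, rfl⟩

theorem cc_eq_mul : d.cc = p ^ (d.a + 1) * d.Ks.card := by
  set H := centralizer ({d.x} : Set G) with hHdef
  haveI := Fintype.ofFinite H
  have hH : ∀ g, g ∈ H ↔ Commute d.x g := fun g =>
    mem_centralizer_singleton_iff.trans ⟨fun h => Eq.symm h, fun h => Eq.symm h⟩
  obtain ⟨Q, N, hN, hc⟩ := d.compl
  haveI := hN
  obtain ⟨i, hi⟩ := Q.2.exists_card_eq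
  have hNd : ¬ p ∣ Nat.card N := hc.index_eq_card ▸ Q.not_dvd_index
  have hNi : N.index = p ^ i := hc.symm.index_eq_card.trans hi
  have hcard : Nat.card H = p ^ i * Nat.card N := by rw [← hNi, index_mul_card]
  have hu : d.u ∈ H := (hH _).2 (by rw [d.x_eq]; exact (Commute.refl _).pow_left _)
  have h1 : p ^ (d.a + 1) ∣ p ^ i :=
    ((hp.out.coprime_iff_not_dvd.2 hNd).pow_left _).dvd_of_dvd_mul_right
      (hcard ▸ d.orderOf_u ▸ Subgroup.orderOf_mk d.u hu ▸ orderOf_dvd_natCard _)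
  have h2 : p ^ i ∣ p ^ (d.a + 1) :=
    ((hp.out.coprime_iff_not_dvd.2 d.not_dvd).pow_left i).dvd_of_dvd_mul_right
      (d.card_G ▸ (Dvd.intro _ hcard.symm).trans (card_subgroup_dvd_card H))
  have hmem : (Finset.univ.filter fun s : H => ¬ p ∣ orderOf s) = Finset.univ.filter fun s : H => s ∈ N := by
    ext s
    simp only [Finset.mem_filter, Finset.mem_univ, true_and]
    constructor
    · intro hs
      exact Transfer.mem_of_pow_mem_of_coprime ((hp.out.coprime_iff_not_dvd.2 hs).symm.pow_right i)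
        (by rw [pow_orderOf_eq_one]; exact one_mem _) (hNi ▸ pow_index_mem N s)
    · exact fun hs hd => hNd (hd.trans (Subgroup.orderOf_dvd_natCard _ hs))
  rw [d.cc_eq_card, ← d.card_reg H hH, hmem, hcard, Nat.dvd_antisymm h2 h1, Nat.card_eq_fintype_card,
    Fintype.card_subtype]

end Setup

end Cfsg.Agent.PairsCyclic
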