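import Cfsg.Agent.Lib.PairsCyclic.Setup
import Cfsg.Agent.Lib.Char.ClassMult
import Cfsg.Agent.Lib.SecondMain.Principal
import Cfsg.Agent.Lib.CentralChar.Fixed

/-!
# The three character sums of the cyclic pair count (owner: helper62)

With `σ χ = ∑ χ(x^j)` and `A χ = ∑∑ χ(x^j y)`:
`∑ conj(A) σ²/χ1 = nn (p-1)(p-2)`, `∑ σ conj(A) = (p-1) nn`, `∑ χ1 conj(A) = 0`,
and `A χ` is `0` or `|K| σ χ` (second main theorem for the principal block).
-/

set_option autoImplicit false

open scoped Classical ComplexConjugate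

namespace Cfsg.Agent.PairsCyclic

open Cfsg Subgroup

universe u

variable {G : Type u} [Group G] [Fintype G] {p : ℕ} [hp : Fact p.Prime] (d : Setup p G)

omit hp in
theorem card_conj_eq (a b : G) :
    (Finset.univ.filter fun g : G => g * a * g⁻¹ = b).card =
      if IsConj a b then Nat.card (centralizer ({a} : Set G)) else 0 := by
  split_ifs with h
  · obtain ⟨c, hc⟩ := isConj_iff.1 h
    rw [Nat.card_eq_fintype_card, Fintype.card_subtype]
    refine Finset.card_bij' (fun g _ => c⁻¹ * g) (fun g _ => c * g) ?_ ?_ ?_ ?_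
    · intro g hg
      simp only [Finset.mem_filter, Finset.mem_univ, true_and, mem_centralizer_singleton_iff] at hg ⊢
      calc c⁻¹ * g * a = c⁻¹ * (g * a * g⁻¹) * g := by group
        _ = c⁻¹ * (c * a * c⁻¹) * g := by rw [hg, hc]
        _ = a * (c⁻¹ * g) := by group
    · intro g hg
      simp only [Finset.mem_filter, Finset.mem_univ, true_and, mem_centralizer_singleton_iff] at hg ⊢
      calc c * g * a * (c * g)⁻¹ = c * (g * a) * g⁻¹ * c⁻¹ := by group
        _ = c * (a * g) * g⁻¹ * c⁻¹ := by rw [hg]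
        _ = c * a * c⁻¹ := by group
        _ = b := hc
    · intro g _
      group
    · intro g _
      group
  · rw [Finset.card_eq_zero, Finset.filter_eq_empty_iff]
    exact fun g _ hg => h (isConj_iff.2 ⟨g, hg⟩)

omit hp in
theorem orth [Fintype (IrrCharacter G)] (a b : G) :
    ∑ χ : IrrCharacter G, (χ : G → ℂ) a * conj ((χ : G → ℂ) b) =
      ((Finset.univ.filter fun g : G => g * a * g⁻¹ = b).card : ℂ) := by
  rw [Char.column_orth a b, card_conj_eq, Nat.cast_ite, Nat.cast_zero]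

namespace Setup

/-- `∑ f (x ^ j)` -/
noncomputable def sig (f : G → ℂ) : ℂ := ∑ j ∈ Jset p, f (d.x ^ j)

/-- `∑ f (x ^ j * y)` -/
noncomputable def big (f : G → ℂ) : ℂ := ∑ j ∈ Jset p, ∑ y ∈ d.Ks, f (d.x ^ j * y)

theorem sum_Ep {f : G → ℂ} (hf : IsClassFunction G f) :
    (d.nn : ℂ) * ∑ w ∈ d.Ep, f w = (Nat.card G : ℂ) * d.sig f := by
  have h := Finset.sum_fiberwise_of_maps_to' (s := (Finset.univ : Finset G) ×ˢ Jset p) (t := d.Ep)
    (g := fun c => c.1 * d.x ^ c.2 * c.1⁻¹) (fun c hc => d.mem_Ep.2 (Eq.trans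
      (by simpa using (MulAut.conj c.1).orderOf_eq (d.x ^ c.2))
      (d.orderOf_pow_J (Finset.mem_product.1 hc).2))) f
  have hl : ∀ w ∈ d.Ep, ∑ _c ∈ ((Finset.univ : Finset G) ×ˢ Jset p).filter
      (fun c => c.1 * d.x ^ c.2 * c.1⁻¹ = w), f w = (d.nn : ℂ) * f w := fun w hw => by
    rw [Finset.sum_const, d.card_fibre_Ep (d.mem_Ep.1 hw), nsmul_eq_mul]
  rw [Finset.sum_congr rfl hl, ← Finset.mul_sum, Finset.sum_product] at h
  rw [h, Finset.sum_congr rfl fun g _ => Finset.sum_congr rfl fun j _ => hf (d.x ^ j) g, Finset.sum_const,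
    Finset.card_univ, nsmul_eq_mul, Nat.card_eq_fintype_card, sig]

theorem sum_Zs {f : G → ℂ} (hf : IsClassFunction G f) :
    (d.nn : ℂ) * ∑ w ∈ d.Zs, f w = (Nat.card G : ℂ) * d.big f := by
  have h := Finset.sum_fiberwise_of_maps_to' (s := (Finset.univ : Finset G) ×ˢ (Jset p ×ˢ d.Ks)) (t := d.Zs)
    (g := fun c => c.1 * (d.x ^ c.2.1 * c.2.2) * c.1⁻¹) (fun c hc => d.mem_Zs.2 (by
      obtain ⟨hj, hy⟩ := Finset.mem_product.1 (Finset.mem_product.1 hc).2
      obtain ⟨hyc, hym⟩ := d.mem_Ks.1 hy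
      rw [conj_pow, d.pow_E_mul (d.pow_x_q _) hym (hyc.symm.pow_left _)]
      exact Eq.trans (by simpa using (MulAut.conj c.1).orderOf_eq (d.x ^ c.2.1)) (d.orderOf_pow_J hj))) f
  have hl : ∀ w ∈ d.Zs, ∑ _c ∈ ((Finset.univ : Finset G) ×ˢ (Jset p ×ˢ d.Ks)).filter
      (fun c => c.1 * (d.x ^ c.2.1 * c.2.2) * c.1⁻¹ = w), f w = (d.nn : ℂ) * f w := fun w hw => by
    rw [Finset.sum_const, d.card_fibre_Zs hw, nsmul_eq_mul]
  rw [Finset.sum_congr rfl hl, ← Finset.mul_sum, Finset.sum_product] at h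
  rw [h, Finset.sum_congr rfl fun g _ => Finset.sum_congr rfl fun c _ => hf (d.x ^ c.1 * c.2) g,
    Finset.sum_const, Finset.card_univ, nsmul_eq_mul, Nat.card_eq_fintype_card, big, Finset.sum_product]

theorem card_Ep : (d.nn : ℂ) * d.Ep.card = (Nat.card G : ℂ) * (p - 1 : ℕ) := by
  have h := d.sum_Ep (f := fun _ => 1) (fun _ _ => rfl)
  simpa [sig, card_Jset] using h

theorem nn_pos : 0 < d.nn := by
  refine Finset.card_pos.2 ⟨1, Finset.mem_filter.2 ⟨Finset.mem_univ _, ?_⟩⟩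
  simp

/-- number of pairs of order `p` whose product has `p`-part of order `p` -/
theorem card_pairs :
    (p - 1) * ∑ b ∈ d.Ep, (d.Ep.filter fun c => b * c ∈ d.Zs).card = d.Ep.card * d.Ep.card * (p - 2) := by
  rw [Finset.mul_sum, mul_assoc, ← smul_eq_mul d.Ep.card, ← Finset.sum_const]
  refine Finset.sum_congr rfl fun b hb => ?_
  have hj : ∀ j ∈ Jset p, (d.Ep.filter fun c => b * c ∈ d.Zs).card =
      ∑ c ∈ d.Ep, if b * c ^ j ∈ d.Zs then 1 else 0 := by
    intro j hj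
    have hcop : Nat.Coprime p j := Nat.coprime_of_lt_prime (Finset.mem_erase.1 hj).1
      (Finset.mem_range.1 (Finset.mem_erase.1 hj).2) hp.out
    rw [Finset.card_filter]
    refine (Finset.sum_nbij (· ^ j) ?_ ?_ ?_ fun c _ => rfl).symm
    · intro c hc
      rw [d.mem_Ep] at hc ⊢
      rw [Nat.Coprime.orderOf_pow (hc ▸ hcop), hc]
    · intro c hc c' hc' h
      simp only [Finset.mem_coe, d.mem_Ep] at hc hc'
      obtain ⟨t, ht⟩ := Nat.exists_mul_mod_eq_one_of_coprime hcop.symm hp.out.one_lt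
      have e : ∀ z : G, orderOf z = p → (z ^ j) ^ t = z := fun z hz => by
        rw [← pow_mul, ← pow_mod_orderOf, hz, ht.2, pow_one]
      rw [← e c hc, ← e c' hc', show c ^ j = c' ^ j from h]
    · intro c hc
      simp only [Finset.mem_coe, d.mem_Ep] at hc
      obtain ⟨t, ht⟩ := Nat.exists_mul_mod_eq_one_of_coprime hcop.symm hp.out.one_lt
      refine ⟨c ^ t, ?_, ?_⟩
      · simp only [Finset.mem_coe, d.mem_Ep]
        refine orderOf_eq_prime (by rw [← pow_mul, mul_comm, pow_mul, ← hc, pow_orderOf_eq_one, one_pow])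
          fun h1 => ?_
        have : c = 1 := by
          rw [← pow_one c, ← ht.2, ← hc, pow_mod_orderOf, mul_comm, pow_mul, h1, one_pow]
        exact hp.out.ne_one (by rw [← hc, this, orderOf_one])
      · show (c ^ t) ^ j = c
        rw [← pow_mul, mul_comm, ← pow_mod_orderOf, hc, ht.2, pow_one]
  have h2 : ∀ c ∈ d.Ep, ∑ j ∈ Jset p, (if b * c ^ j ∈ d.Zs then 1 else 0) = p - 2 := fun c hc => by
    rw [← Finset.card_filter]
    simp only [d.mem_Zs]
    exact d.pair b c (d.mem_Ep.1 hb) (d.mem_Ep.1 hc)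
  calc (p - 1) * (d.Ep.filter fun c => b * c ∈ d.Zs).card
      = ∑ _j ∈ Jset p, (d.Ep.filter fun c => b * c ∈ d.Zs).card := by
        rw [Finset.sum_const, card_Jset, smul_eq_mul]
    _ = ∑ j ∈ Jset p, ∑ c ∈ d.Ep, if b * c ^ j ∈ d.Zs then 1 else 0 := Finset.sum_congr rfl hj
    _ = d.Ep.card * (p - 2) := by rw [Finset.sum_comm, Finset.sum_congr rfl h2, Finset.sum_const, smul_eq_mul]

theorem isClassFunction_indicator_Zs :
    IsClassFunction G (fun z => if z ∈ d.Zs then (1 : ℂ) else 0) := fun z g => by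
  refine if_congr ?_ rfl rfl
  rw [d.mem_Zs, d.mem_Zs, conj_pow]
  exact Eq.congr_left (by simpa using (MulAut.conj g).orderOf_eq (z ^ d.E))

theorem isClassFunction_indicator_Ep :
    IsClassFunction G (fun z => if z ∈ d.Ep then (1 : ℂ) else 0) := fun z g => by
  refine if_congr ?_ rfl rfl
  rw [d.mem_Ep, d.mem_Ep]
  exact Eq.congr_left (by simpa using (MulAut.conj g).orderOf_eq z)

theorem sum_pairs_irr (χ : IrrCharacter G) :
    ∑ b ∈ d.Ep, ∑ c ∈ d.Ep, (χ : G → ℂ) (b * c) =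
      (∑ b ∈ d.Ep, (χ : G → ℂ) b) ^ 2 / (χ : G → ℂ) 1 := by
  obtain ⟨n, ρ, hi, he⟩ := χ.2
  haveI := hi
  have hop := Char.groupSumOp_eq_smul ρ d.isClassFunction_indicator_Ep
  set S := ∑ b ∈ d.Ep, (χ : G → ℂ) b with hS
  have hsum : ∑ g, (if g ∈ d.Ep then (1 : ℂ) else 0) * ρ.character g = S := by
    rw [hS, he]
    simp
  have h1 : (χ : G → ℂ) 1 = (Module.finrank ℂ (Fin n → ℂ) : ℂ) := by rw [← he, Representation.char_one]
  rw [hsum, ← h1] at hop
  have hb : ∀ b : G, ∑ c ∈ d.Ep, (χ : G → ℂ) (b * c) = S / (χ : G → ℂ) 1 * (χ : G → ℂ) b := by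
    intro b
    have h := congrArg (fun T => LinearMap.trace ℂ _ (ρ b * T)) hop
    simp only [Char.groupSumOp, Finset.mul_sum, map_sum, mul_smul_comm, map_smul, smul_eq_mul, ← map_mul,
      show (LinearMap.id : (Fin n → ℂ) →ₗ[ℂ] _) = 1 from rfl, mul_one] at h
    rw [← he] at h ⊢
    simpa [Representation.character, ite_mul] using h
  rw [Finset.sum_congr rfl fun b _ => hb b, ← Finset.mul_sum, ← hS]
  ring

/-- the pair count through characters -/
theorem sum_cubes [Fintype (IrrCharacter G)] :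
    ∑ χ : IrrCharacter G, conj (d.big (χ : G → ℂ)) * d.sig (χ : G → ℂ) ^ 2 / (χ : G → ℂ) 1 =
      (d.nn : ℂ) * (p - 1 : ℕ) * (p - 2 : ℕ) := by
  set F : G → ℂ := fun z => if z ∈ d.Zs then (1 : ℂ) else 0 with hF
  have hn : (d.nn : ℂ) ≠ 0 := Nat.cast_ne_zero.2 d.nn_pos.ne'
  have hG : (Nat.card G : ℂ) ≠ 0 := Nat.cast_ne_zero.2 Nat.card_pos.ne'
  have hp1 : ((p - 1 : ℕ) : ℂ) ≠ 0 := Nat.cast_ne_zero.2 (Nat.sub_pos_of_lt hp.out.one_lt).ne'
  have hcf : ∀ χ : IrrCharacter G, IsClassFunction G (χ : G → ℂ) :=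
    fun χ => Char.IsIrrCharacter.isClassFunction χ.2
  have hcoef : ∀ χ : IrrCharacter G, classInner F (χ : G → ℂ) =
      conj (d.big (χ : G → ℂ)) / (d.nn : ℂ) := fun χ => by
    have h := congrArg conj (d.sum_Zs (hcf χ))
    simp only [map_mul, map_natCast, map_sum] at h
    rw [classInner]
    have e : ∑ g, F g * conj ((χ : G → ℂ) g) = ∑ w ∈ d.Zs, conj ((χ : G → ℂ) w) := by simp [hF]
    rw [e]
    field_simp
    linear_combination h
  have hS : ∀ χ : IrrCharacter G, ∑ b ∈ d.Ep, (χ : G → ℂ) b =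
      (Nat.card G : ℂ) * d.sig (χ : G → ℂ) / (d.nn : ℂ) := fun χ => by
    rw [← d.sum_Ep (hcf χ), mul_div_cancel_left₀ _ hn]
  have hT : ((∑ b ∈ d.Ep, (d.Ep.filter fun c => b * c ∈ d.Zs).card : ℕ) : ℂ) =
      ∑ χ : IrrCharacter G, conj (d.big (χ : G → ℂ)) / (d.nn : ℂ) *
        ((∑ b ∈ d.Ep, (χ : G → ℂ) b) ^ 2 / (χ : G → ℂ) 1) := by
    calc ((∑ b ∈ d.Ep, (d.Ep.filter fun c => b * c ∈ d.Zs).card : ℕ) : ℂ)
        = ∑ b ∈ d.Ep, ∑ c ∈ d.Ep, F (b * c) := by
          push_cast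
          refine Finset.sum_congr rfl fun b _ => ?_
          rw [hF, Finset.sum_boole]
      _ = ∑ b ∈ d.Ep, ∑ c ∈ d.Ep, ∑ χ : IrrCharacter G,
            conj (d.big (χ : G → ℂ)) / (d.nn : ℂ) * (χ : G → ℂ) (b * c) := by
          refine Finset.sum_congr rfl fun b _ => Finset.sum_congr rfl fun c _ => ?_
          have h := congrFun (Char.classFunction_eq_sum d.isClassFunction_indicator_Zs) (b * c)
          rw [Finset.sum_apply] at h
          refine h.trans (Finset.sum_congr rfl fun χ _ => ?_)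
          rw [Pi.smul_apply, smul_eq_mul, ← hcoef]
      _ = _ := by
          rw [Finset.sum_congr rfl fun b _ => Finset.sum_comm, Finset.sum_comm]
          refine Finset.sum_congr rfl fun χ _ => ?_
          rw [← d.sum_pairs_irr, Finset.mul_sum]
          exact Finset.sum_congr rfl fun b _ => (Finset.mul_sum ..).symm
  have hk := congrArg (Nat.cast : ℕ → ℂ) d.card_pairs
  rw [Nat.cast_mul, hT, Nat.cast_mul, Nat.cast_mul] at hk
  have hE : (d.Ep.card : ℂ) = (Nat.card G : ℂ) * (p - 1 : ℕ) / (d.nn : ℂ) := by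
    rw [← d.card_Ep, mul_div_cancel_left₀ _ hn]
  rw [hE] at hk
  simp only [hS] at hk
  have e : ∀ χ : IrrCharacter G, conj (d.big (χ : G → ℂ)) / (d.nn : ℂ) *
        (((Nat.card G : ℂ) * d.sig (χ : G → ℂ) / (d.nn : ℂ)) ^ 2 / (χ : G → ℂ) 1) =
      (Nat.card G : ℂ) ^ 2 / (d.nn : ℂ) ^ 3 *
        (conj (d.big (χ : G → ℂ)) * d.sig (χ : G → ℂ) ^ 2 / (χ : G → ℂ) 1) := fun χ => by ring
  rw [Finset.sum_congr rfl fun χ _ => e χ, ← Finset.mul_sum] at hk
  field_simp at hk
  linear_combination hk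

theorem eq_one_of_pow_eq {i j : ℕ} {y g : G} (hy : y ∈ d.Ks)
    (h : g * d.x ^ i * g⁻¹ = d.x ^ j * y) : y = 1 := by
  obtain ⟨hc, hm⟩ := d.mem_Ks.1 hy
  have h1 := congrArg (· ^ p) h
  have e : ∀ k : ℕ, (d.x ^ k) ^ p = 1 := fun k => by rw [← pow_mul, mul_comm, pow_mul, d.pow_p, one_pow]
  simp only [conj_pow, (hc.symm.pow_left j).mul_pow, e, mul_one, mul_inv_cancel, one_mul] at h1
  refine orderOf_eq_one_iff.1 (Nat.eq_one_of_dvd_coprimes (hp.out.coprime_iff_not_dvd.2 d.not_dvd)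
    (orderOf_dvd_of_pow_eq_one h1.symm) (orderOf_dvd_of_pow_eq_one hm))

theorem one_mem_Ks : (1 : G) ∈ d.Ks := d.mem_Ks.2 ⟨Commute.one_left _, one_pow _⟩

/-- second orthogonality between `σ` and `A` -/
theorem sum_sig_big [Fintype (IrrCharacter G)] :
    ∑ χ : IrrCharacter G, d.sig (χ : G → ℂ) * conj (d.big (χ : G → ℂ)) = ((p - 1 : ℕ) : ℂ) * d.nn := by
  have e : ∀ χ : IrrCharacter G, d.sig (χ : G → ℂ) * conj (d.big (χ : G → ℂ)) =
      ∑ i ∈ Jset p, ∑ j ∈ Jset p, ∑ y ∈ d.Ks, (χ : G → ℂ) (d.x ^ i) * conj ((χ : G → ℂ) (d.x ^ j * y)) := by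
    intro χ
    rw [sig, Finset.sum_mul]
    refine Finset.sum_congr rfl fun i _ => ?_
    rw [big, map_sum, Finset.mul_sum]
    exact Finset.sum_congr rfl fun j _ => by rw [map_sum, Finset.mul_sum]
  rw [Finset.sum_congr rfl fun χ _ => e χ]
  rw [Finset.sum_comm, Finset.sum_congr rfl fun i hi => ?_]
  rotate_left
  · exact fun _ => (d.nn : ℂ)
  · rw [Finset.sum_comm]
    have hz : ∀ j ∈ Jset p, ∑ χ : IrrCharacter G, ∑ y ∈ d.Ks,
        (χ : G → ℂ) (d.x ^ i) * conj ((χ : G → ℂ) (d.x ^ j * y)) =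
        ((Finset.univ.filter fun g : G => g * d.x ^ i * g⁻¹ = d.x ^ j).card : ℂ) := by
      intro j _
      rw [Finset.sum_comm, Finset.sum_eq_single (1 : G)]
      · rw [orth, mul_one]
      · intro y hy hy1
        rw [orth, Nat.cast_eq_zero, Finset.card_eq_zero, Finset.filter_eq_empty_iff]
        exact fun g _ hg => hy1 (d.eq_one_of_pow_eq hy hg)
      · exact fun h => absurd d.one_mem_Ks h
    rw [Finset.sum_congr rfl hz, ← Nat.cast_sum, d.sum_card_conj hi]
  rw [Finset.sum_const, card_Jset, nsmul_eq_mul]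

/-- orthogonality between the degree and `A` -/
theorem sum_deg_big [Fintype (IrrCharacter G)] :
    ∑ χ : IrrCharacter G, (χ : G → ℂ) 1 * conj (d.big (χ : G → ℂ)) = 0 := by
  simp only [big, map_sum, Finset.mul_sum]
  rw [Finset.sum_comm]
  refine Finset.sum_eq_zero fun j hj => ?_
  rw [Finset.sum_comm]
  refine Finset.sum_eq_zero fun y hy => ?_
  rw [orth, Nat.cast_eq_zero, Finset.card_eq_zero, Finset.filter_eq_empty_iff]
  intro g _ hg
  rw [mul_one, mul_inv_cancel] at hg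
  obtain ⟨hc, hm⟩ := d.mem_Ks.1 hy
  have h1 := d.pow_E_mul (d.pow_x_q j) hm (hc.symm.pow_left j)
  rw [← hg, one_pow] at h1
  have := d.orderOf_pow_J hj
  rw [← h1, orderOf_one] at this
  exact hp.out.ne_one this.symm

theorem big_eq_of_mem {M : Ideal AlgInt} (hM : IsPModular p M) {χ : IrrCharacter G}
    (hχ : χ ∈ principalBlock M G) {j : ℕ} (hj : j ∈ Jset p) {y : G} (hy : y ∈ d.Ks) :
    (χ : G → ℂ) (d.x ^ j * y) = (χ : G → ℂ) (d.x ^ j) := by
  obtain ⟨hc, hm⟩ := d.mem_Ks.1 hy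
  have hH : ∀ g, g ∈ centralizer ({d.x} : Set G) ↔ Commute (d.x ^ j) g := fun g =>
    mem_centralizer_singleton_iff.trans
      ⟨fun h => ((show Commute g d.x from h).pow_right j).symm, fun h => (d.commute_of_pow hj h.symm)⟩
  refine SecondMain.apply_shift_principal hM ⟨1, by rw [pow_one, d.orderOf_pow_J hj]⟩ hH d.compl hχ
    (s := ⟨y, mem_centralizer_singleton_iff.2 hc⟩) ?_
  rw [Subgroup.orderOf_mk]
  exact (d.regular_iff y).2 hm

/-- The second main theorem: `A χ` vanishes outside the principal block, and is `|K| σ χ` inside. -/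
theorem big_cases (χ : IrrCharacter G) :
    d.big (χ : G → ℂ) = 0 ∨ d.big (χ : G → ℂ) = (d.Ks.card : ℂ) * d.sig (χ : G → ℂ) := by
  obtain ⟨M, hM⟩ := CentralChar.exists_pModular p
  haveI := Fintype.ofFinite (IrrCharacter G)
  by_cases hχ : χ ∈ principalBlock M G
  · right
    rw [big, sig, Finset.mul_sum]
    refine Finset.sum_congr rfl fun j hj => ?_
    rw [Finset.sum_congr rfl fun y hy => d.big_eq_of_mem hM hχ hj hy, Finset.sum_const, nsmul_eq_mul]
  left
  refine Finset.sum_eq_zero fun j hj => ?_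
  set H := centralizer ({d.x} : Set G)
  haveI := Fintype.ofFinite H
  have hH : ∀ g, g ∈ H ↔ Commute (d.x ^ j) g := fun g =>
    mem_centralizer_singleton_iff.trans
      ⟨fun h => ((show Commute g d.x from h).pow_right j).symm, fun h => (d.commute_of_pow hj h.symm)⟩
  have hH' : ∀ g, g ∈ H ↔ Commute d.x g := fun g =>
    mem_centralizer_singleton_iff.trans ⟨fun h => Eq.symm h, fun h => Eq.symm h⟩
  have hsq := SecondMain.sum_sq_principal_of_complement hM (x := d.x ^ j)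
    ⟨1, by rw [pow_one, d.orderOf_pow_J hj]⟩ hH d.compl
  rw [show ((Finset.univ.filter fun s : H => ¬ p ∣ orderOf s).card : ℂ) = (d.Ks.card : ℂ) from
    congrArg Nat.cast (d.card_reg H hH'), ← d.cc_eq_card, finsum_mem_eq_toFinset_sum] at hsq
  set W : IrrCharacter G → ℂ := fun ψ => ∑ y ∈ d.Ks, (ψ : G → ℂ) (d.x ^ j * y) with hW
  have hall : ∑ ψ : IrrCharacter G, W ψ * conj (W ψ) = (d.Ks.card : ℂ) * d.cc := by
    simp only [hW, map_sum, Finset.sum_mul_sum]
    rw [Finset.sum_comm, Finset.sum_congr rfl fun y hy => ?_]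
    rotate_left
    · exact fun _ => (d.cc : ℂ)
    · rw [Finset.sum_comm]
      simp only [orth]
      rw [← Nat.cast_sum]
      congr 1
      obtain ⟨hyc, hym⟩ := d.mem_Ks.1 hy
      have hset : (Finset.univ.filter fun g : G => g * d.x * g⁻¹ = d.x) = Finset.univ.filter
          fun g : G => g * (d.x ^ j * y) * g⁻¹ ∈ d.Ks.image (d.x ^ j * ·) := by
        ext g
        simp only [Finset.mem_filter, Finset.mem_univ, true_and, Finset.mem_image]
        constructor
        · intro hg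
          refine ⟨g * y * g⁻¹, d.mem_Ks.2 ⟨?_, by rw [conj_pow, hym, mul_one, mul_inv_cancel]⟩, ?_⟩
          · have h2 : Commute g d.x := mul_inv_eq_iff_eq_mul.1 hg
            exact (h2.mul_left hyc).mul_left h2.inv_left
          · have h2 : Commute g (d.x ^ j) :=
              (show Commute g d.x from mul_inv_eq_iff_eq_mul.1 hg).pow_right j
            rw [← mul_assoc g, h2.eq]
            group
        · rintro ⟨y', hy', he⟩
          obtain ⟨hy'c, hy'm⟩ := d.mem_Ks.1 hy'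
          have h2 := congrArg (· ^ d.E) he
          simp only [conj_pow, d.pow_E_mul (d.pow_x_q j) hym (hyc.symm.pow_left j),
            d.pow_E_mul (d.pow_x_q j) hy'm (hy'c.symm.pow_left j)] at h2
          exact mul_inv_eq_iff_eq_mul.2 (d.commute_of_pow hj (mul_inv_eq_iff_eq_mul.1 h2.symm))
      have hfib := Finset.card_eq_sum_card_fiberwise
        (s := Finset.univ.filter fun g : G => g * (d.x ^ j * y) * g⁻¹ ∈ d.Ks.image (d.x ^ j * ·))
        (f := fun g : G => g * (d.x ^ j * y) * g⁻¹) (t := d.Ks.image (d.x ^ j * ·))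
        (fun g hg => (Finset.mem_filter.1 hg).2)
      refine Eq.trans ?_ ((congrArg Finset.card hset).trans hfib).symm
      rw [Finset.sum_image fun a _ b _ h => mul_left_cancel h]
      refine Finset.sum_congr rfl fun y' hy' => congrArg Finset.card ?_
      ext g
      simp only [Finset.mem_filter, Finset.mem_univ, true_and, Finset.mem_image]
      exact ⟨fun h => ⟨⟨y', hy', h.symm⟩, h⟩, fun h => h.2⟩
    rw [Finset.sum_const, nsmul_eq_mul]
  set B := (principalBlock M G).toFinset with hB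
  have hin : ∑ ψ ∈ B, W ψ * conj (W ψ) = (d.Ks.card : ℂ) * d.cc := by
    rw [← hsq, Finset.mul_sum, Finset.mul_sum]
    refine Finset.sum_congr rfl fun ψ hψ => ?_
    rw [hB, Set.mem_toFinset] at hψ
    simp only [hW, Finset.sum_congr rfl fun y hy => d.big_eq_of_mem hM hψ hj hy, Finset.sum_const,
      nsmul_eq_mul, map_mul, map_natCast]
    ring
  have hout : ∑ ψ ∈ Bᶜ, W ψ * conj (W ψ) = 0 := by
    have h := Finset.sum_add_sum_compl B fun ψ => W ψ * conj (W ψ)
    rw [hin, hall] at h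
    simpa using h
  simp only [Complex.mul_conj, ← Complex.ofReal_sum, Complex.ofReal_eq_zero] at hout
  have h0 := (Finset.sum_eq_zero_iff_of_nonneg fun ψ _ => Complex.normSq_nonneg _).1 hout χ
    (by rw [Finset.mem_compl, hB, Set.mem_toFinset]; exact hχ)
  exact Complex.normSq_eq_zero.1 h0

end Setup

end Cfsg.Agent.PairsCyclic
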